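import Cfsg.Agent.Lib.CharsMore.ExtraTransfer.Fusion

/-!
The two-part of the abelianization of an involution centraliser with an extraspecial core has
exponent two, in a group without quotient of order two.
-/

set_option autoImplicit false
set_option linter.unusedSectionVars false

namespace CfsgLib.CharsMore.ExtraTransfer

open Subgroup CfsgLib.Involutions.ExtraTransfer

variable {G : Type*} [Group G] [Finite G] {z : G} {E : Subgroup G}

/-- A sign character separating a two-element whose square is nontrivial. -/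
theorem exists_sign_char {Q : Type*} [CommGroup Q] [Finite Q] {q : Q} (hq : ∃ k : ℕ, orderOf q = 2 ^ k)
    (hq2 : q ^ 2 ≠ 1) : ∃ ψ : Q →* ℤˣ, (∃ y, ψ y ≠ 1) ∧ ∀ s : Q, s ^ 2 = 1 → ψ s = 1 := by
  classical
  have := Fintype.ofFinite Q
  -- a two-element of maximal order
  obtain ⟨t, ht, htmax⟩ := Finset.exists_max_image (Finset.univ.filter fun s : Q => ∃ k : ℕ, orderOf s = 2 ^ k)
    orderOf ⟨q, by simpa using hq⟩
  simp only [Finset.mem_filter, Finset.mem_univ, true_and] at ht htmax
  obtain ⟨a, ha⟩ := ht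
  have ha2 : 2 ≤ a := by
    obtain ⟨k, hk⟩ := hq
    have h1 := htmax q ⟨k, hk⟩
    rw [hk, ha] at h1
    have h2 : 2 ≤ k := by
      by_contra hlt
      exact hq2 (orderOf_dvd_iff_pow_eq_one.1 (hk ▸ (pow_dvd_pow 2 (show k ≤ 1 by omega)).trans (by norm_num)))
    exact h2.trans ((Nat.pow_le_pow_iff_right (by norm_num)).1 h1)
  let U : Subgroup Q := (powMonoidHom 2 : Q →* Q).range ⊔ (powMonoidHom 2 : Q →* Q).ker
  have htU : t ∉ U := by
    intro htU
    obtain ⟨x, ⟨c, rfl⟩, b, hb, hxb⟩ := Subgroup.mem_sup.1 htU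
    have hb2 : b ^ 2 = 1 := hb
    have hxb' : c ^ 2 * b = t := hxb
    -- the square of c has the order of t
    have hc2 : orderOf (c ^ 2) ∣ 2 ^ a := orderOf_dvd_iff_pow_eq_one.2 (by
      have h1 : c ^ 2 = t * b⁻¹ := by rw [← hxb', mul_inv_cancel_right]
      rw [h1, mul_pow, inv_pow, ← ha, pow_orderOf_eq_one, one_mul, ha,
        show 2 ^ a = 2 * 2 ^ (a - 1) by rw [← pow_succ']; congr 1; omega, pow_mul, hb2, one_pow, inv_one])
    have hc : orderOf c ∣ 2 ^ (a + 1) := orderOf_dvd_iff_pow_eq_one.2 (by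
      rw [pow_succ', pow_mul]; exact orderOf_dvd_iff_pow_eq_one.1 hc2)
    obtain ⟨j, -, hj⟩ := (Nat.dvd_prime_pow Nat.prime_two).1 hc
    have h1 := htmax c ⟨j, hj⟩
    rw [hj, ha] at h1
    have hja := (Nat.pow_le_pow_iff_right (by norm_num)).1 h1
    have hcpow : c ^ 2 ^ a = 1 := orderOf_dvd_iff_pow_eq_one.1 (hj ▸ pow_dvd_pow 2 hja)
    -- hence a smaller power kills t
    have htpow : t ^ 2 ^ (a - 1) = 1 := by
      rw [← hxb', mul_pow, ← pow_mul, ← pow_succ', show a - 1 + 1 = a by omega, hcpow, one_mul,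
        show 2 ^ (a - 1) = 2 * 2 ^ (a - 2) by rw [← pow_succ']; congr 1; omega, pow_mul, hb2, one_pow]
    have h2 : orderOf t ∣ 2 ^ (a - 1) := orderOf_dvd_iff_pow_eq_one.2 htpow
    rw [ha] at h2
    have := (Nat.pow_dvd_pow_iff_le_right (by norm_num)).1 h2
    omega
  -- a maximal subgroup avoiding t
  obtain ⟨K, hKU, htK, hKmax⟩ : ∃ K : Subgroup Q, U ≤ K ∧ t ∉ K ∧ ∀ K' : Subgroup Q, K < K' → t ∈ K' := by
    obtain ⟨K, hK⟩ := (Set.toFinite {K : Subgroup Q | U ≤ K ∧ t ∉ K}).exists_maximal ⟨U, le_rfl, htU⟩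
    exact ⟨K, hK.prop.1, hK.prop.2, fun K' hlt => by
      by_contra h
      exact hlt.not_ge (hK.le_of_ge ⟨hK.prop.1.trans hlt.le, h⟩ hlt.le)⟩
  have hsq : ∀ y : Q, y * y ∈ K := fun y => hKU (mem_sup_left ⟨y, by show y ^ 2 = y * y; rw [pow_two]⟩)
  have hother : ∀ y, y ∉ K → t * y ∈ K := by
    intro y hy
    let K' : Subgroup Q :=
      { carrier := {x | x ∈ K ∨ y * x ∈ K}
        one_mem' := Or.inl K.one_mem
        mul_mem' := by
          rintro u v (hu | hu) (hv | hv)
          · exact Or.inl (K.mul_mem hu hv)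
          · exact Or.inr (by rw [mul_left_comm]; exact K.mul_mem hu hv)
          · exact Or.inr (by rw [← mul_assoc]; exact K.mul_mem hu hv)
          · refine Or.inl ?_
            have h := K.mul_mem (K.inv_mem (hsq y)) (K.mul_mem hu hv)
            rwa [show (y * y)⁻¹ * (y * u * (y * v)) = u * v by
              rw [mul_mul_mul_comm y u y v, inv_mul_cancel_left]] at h
        inv_mem' := by
          rintro u (hu | hu)
          · exact Or.inl (K.inv_mem hu)
          · refine Or.inr ?_
            have h := K.mul_mem (hsq y) (K.inv_mem hu)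
            rwa [show y * y * (y * u)⁻¹ = y * u⁻¹ by rw [mul_inv]; group] at h }
    have hlt : K < K' := lt_of_le_of_ne (fun x hx => Or.inl hx)
      fun h => hy (h ▸ (Or.inr (hsq y) : y ∈ K'))
    rcases hKmax K' hlt with h | h
    · exact absurd h htK
    · rwa [mul_comm]
  have hidx : K.index = 2 := Subgroup.index_eq_two_iff.2 ⟨t, fun y => by
    by_cases hy : y ∈ K
    · exact Or.inr ⟨hy, fun h => htK (by simpa using K.mul_mem (K.inv_mem hy) h)⟩
    · exact Or.inl ⟨by rw [mul_comm]; exact hother y hy, hy⟩⟩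
  refine ⟨MonoidHom.mk' (fun y => if y ∈ K then 1 else -1) fun u v => ?_, ⟨t, ?_⟩, fun s hs => ?_⟩
  · have := mul_mem_iff_of_index_two hidx (a := u) (b := v)
    by_cases hu : u ∈ K <;> by_cases hv : v ∈ K <;> simp [hu, hv] at this <;> simp [hu, hv, this]
  · intro h
    have h' : (if t ∈ K then (1 : ℤˣ) else -1) = 1 := h
    rw [if_neg htK] at h'
    exact absurd h' (by decide)
  · show (if s ∈ K then (1 : ℤˣ) else -1) = 1
    rw [if_pos (hKU (mem_sup_right hs))]

/-- A permutation of at most four points of two-power order fixing two points is an involution,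
and one fixing a point has fourth-root behaviour. -/
theorem perm_small {α : Type*} [Finite α] (hα : Nat.card α ≤ 4) (σ : Equiv.Perm α) {x : α} (hx : σ x = x) :
    ((∃ y, y ≠ x ∧ σ y = y) → σ * σ = 1) ∧ ((∃ k, σ ^ 2 ^ k = 1) → σ * σ = 1) := by
  classical
  have := Fintype.ofFinite α
  have hsupp : σ.support.card ≤ 3 := by
    have h : σ.support ⊆ Finset.univ.erase x := fun y hy =>
      Finset.mem_erase.2 ⟨fun h => Equiv.Perm.mem_support.1 hy (h ▸ hx), Finset.mem_univ _⟩
    have h2 := Finset.card_le_card h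
    rw [Finset.card_erase_of_mem (Finset.mem_univ _), Finset.card_univ, ← Nat.card_eq_fintype_card] at h2
    omega
  rcases Nat.lt_or_ge σ.support.card 3 with hlt | hge
  · have h2 : σ * σ = 1 := by
      rcases Nat.lt_or_ge σ.support.card 2 with h1 | h2
      · have : σ = 1 := by
          rw [← Equiv.Perm.card_support_le_one]; omega
        rw [this, one_mul]
      · have := Equiv.Perm.card_support_eq_two.1 (by omega : σ.support.card = 2)
        obtain ⟨a, b, -, rfl⟩ := this
        exact Equiv.swap_mul_self a b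
    exact ⟨fun _ => h2, fun _ => h2⟩
  · have h3 : σ.IsThreeCycle := card_support_eq_three_iff.1 (by omega)
    refine ⟨?_, ?_⟩
    · rintro ⟨y, hyx, hy⟩
      exfalso
      have h : σ.support ⊆ (Finset.univ.erase x).erase y := fun w hw =>
        Finset.mem_erase.2 ⟨fun h => Equiv.Perm.mem_support.1 hw (h ▸ hy), Finset.mem_erase.2
          ⟨fun h => Equiv.Perm.mem_support.1 hw (h ▸ hx), Finset.mem_univ _⟩⟩
      have h2 := Finset.card_le_card h
      rw [Finset.card_erase_of_mem (Finset.mem_erase.2 ⟨hyx, Finset.mem_univ _⟩),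
        Finset.card_erase_of_mem (Finset.mem_univ _), Finset.card_univ, ← Nat.card_eq_fintype_card] at h2
      omega
    · rintro ⟨k, hk⟩
      exfalso
      have h := orderOf_dvd_iff_pow_eq_one.2 hk
      rw [h3.orderOf] at h
      have := (Nat.prime_dvd_prime_iff_eq Nat.prime_three Nat.prime_two).1 (Nat.prime_three.dvd_of_dvd_pow h)
      omega

/-- An element acting trivially on the extraspecial group modulo its centre lies in it. -/
theorem mem_of_trivial_action (D : Setup z E) {s : G} (hs : s ∈ centralizer ({z} : Set G))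
    (hfix : ∀ e ∈ E, s * e * s⁻¹ = e ∨ s * e * s⁻¹ = e * z) : s ∈ E := by
  classical
  have hz1 : z ≠ 1 := fun h0 => by have := D.hz; rw [h0, orderOf_one] at this; omega
  let ψ : G → ℤ := fun e => sgn s e
  have hzne : ∀ {a : G}, a * z ≠ a := fun h => hz1 (mul_eq_left.1 h)
  have hval : ∀ e, s * e = e * s ↔ s * e * s⁻¹ = e := fun e => (mul_inv_eq_iff_eq_mul).symm
  have hmul : ∀ h ∈ E, ∀ k ∈ E, ψ (h * k) = ψ h * ψ k := by
    intro h hh k hk
    have e0 : s * (h * k) * s⁻¹ = (s * h * s⁻¹) * (s * k * s⁻¹) := by group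
    have hzk : z * k = k * z := D.zc (D.le hk)
    rcases hfix h hh with a | a <;> rcases hfix k hk with b | b <;> rw [a, b] at e0
    · simp only [ψ, sgn_eq_one ((hval _).2 a), sgn_eq_one ((hval _).2 b), sgn_eq_one ((hval _).2 e0), one_mul]
    · simp only [ψ, sgn_eq_one ((hval _).2 a), one_mul]
      unfold sgn
      rw [if_neg, if_neg] <;> rw [hval] <;> intro c
      · rw [b] at c; exact hzne c
      · rw [e0, ← mul_assoc] at c; exact hzne c
    · simp only [ψ, sgn_eq_one ((hval _).2 b), mul_one]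
      unfold sgn
      rw [if_neg, if_neg] <;> rw [hval] <;> intro c
      · rw [a] at c; exact hzne c
      · rw [e0, mul_assoc, hzk, ← mul_assoc] at c; exact hzne c
    · have e1 : h * z * (k * z) = h * k := by
        calc h * z * (k * z) = h * (z * k) * z := by group
          _ = h * k * (z * z) := by rw [hzk]; group
          _ = h * k := by rw [D.zz, mul_one]
      rw [e1] at e0
      simp only [ψ]
      rw [sgn_eq_one ((hval _).2 e0)]
      unfold sgn
      rw [if_neg, if_neg]
      · norm_num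
      all_goals rw [hval]; intro c
      · rw [b] at c; exact hzne c
      · rw [a] at c; exact hzne c
  obtain ⟨e1, he1, hs1⟩ := exists_sgn_eq D ψ (fun e _ => by
    by_cases h : s * e = e * s <;> simp [ψ, sgn, h]) hmul
    (sgn_eq_one (by simp)) (sgn_eq_one (D.zc hs).symm)
  have hprod : e1 * s ∈ E := by
    refine D.self (mem_centralizer_iff.2 fun e he => ?_)
    by_cases hc : s * e = e * s
    · have h1 := hs1 e he
      rw [show ψ e = 1 from sgn_eq_one hc] at h1
      have h2 : e1 * e = e * e1 := by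
        by_contra hne; rw [sgn, if_neg hne] at h1; omega
      rw [← mul_assoc, ← h2, mul_assoc, ← hc, mul_assoc]
    · have h1 := hs1 e he
      rw [show ψ e = -1 from if_neg hc] at h1
      have h2 : e1 * e = e * e1 * z := (D.comm e1 he1 e he).resolve_left fun hne => by
        rw [sgn_eq_one hne] at h1; omega
      have h3 : s * e = e * z * s := mul_inv_eq_iff_eq_mul.1 ((hfix e he).resolve_left fun h => hc ((hval e).2 h))
      symm
      calc e1 * s * e = e1 * (e * z * s) := by rw [mul_assoc, h3]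
        _ = (e1 * e) * z * s := by group
        _ = e * e1 * (z * z) * s := by rw [h2]; group
        _ = e * (e1 * s) := by rw [D.zz]; group
  exact (E.mul_mem_cancel_left he1).1 hprod

/-- The case of an extraspecial core of order at most eight. -/
theorem small_case (D : Setup z E)
    (hcore : ∀ P : Subgroup G, IsPGroup 2 P → P ≤ centralizer ({z} : Set G) →
      (∀ h ∈ centralizer ({z} : Set G), ∀ x ∈ P, h * x * h⁻¹ ∈ P) → P ≤ E)
    (hE : Nat.card E ≤ 8) (hzA : ∀ hz : z ∈ centralizer ({z} : Set G),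
      Abelianization.of (⟨z, hz⟩ : centralizer ({z} : Set G)) = 1)
    {t : centralizer ({z} : Set G)} (ht : ∃ k : ℕ, orderOf t = 2 ^ k) : Abelianization.of t ^ 2 = 1 := by
  classical
  let ab : centralizer ({z} : Set G) →* Abelianization (centralizer ({z} : Set G)) := Abelianization.of
  have hofE : ∀ e : centralizer ({z} : Set G), (e : G) ∈ E → ab e ^ 2 = 1 := fun e he => by
    rw [← map_pow]
    rcases D.sq e he with h | h
    · rw [show e ^ 2 = 1 from Subtype.ext (by push_cast; rw [pow_two, h]), map_one]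
    · rw [show e ^ 2 = ⟨z, D.le D.mem⟩ from Subtype.ext (by push_cast; rw [pow_two, h])]
      exact hzA _
  by_cases htE : (t : G) ∈ E
  · exact hofE t htE
  -- the action on the central quotient
  let N : Subgroup E := zpowers (⟨z, D.mem⟩ : E)
  have : N.Normal := ⟨fun y hy g => by
    obtain ⟨i, rfl⟩ := mem_zpowers_iff.1 hy
    have hc : Commute g (⟨z, D.mem⟩ : E) := Subtype.ext (D.zc (D.le g.2)).symm
    rw [(hc.zpow_right i).eq, mul_inv_cancel_right]; exact zpow_mem (mem_zpowers _) i⟩
  have hNcard : Nat.card N = 2 := by rw [Nat.card_zpowers, Subgroup.orderOf_mk, D.hz]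
  have hQ : Nat.card (E ⧸ N) ≤ 4 := by
    have h := N.card_eq_card_quotient_mul_card_subgroup
    rw [hNcard] at h; omega
  let cj : centralizer ({z} : Set G) → (E →* E) := fun h =>
    MonoidHom.mk' (fun e => ⟨(h : G) * e * (h : G)⁻¹, D.nor h h.2 e e.2⟩) fun a b => Subtype.ext (by
      show (h : G) * (a * b) * (h : G)⁻¹ = (h : G) * a * (h : G)⁻¹ * ((h : G) * b * (h : G)⁻¹)
      group)
  have hcjN : ∀ h, N ≤ N.comap (cj h) := fun h => zpowers_le.2 (by
    rw [mem_comap]
    have : cj h ⟨z, D.mem⟩ = ⟨z, D.mem⟩ := Subtype.ext (by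
      show (h : G) * z * (h : G)⁻¹ = z
      rw [← D.zc h.2, mul_inv_cancel_right])
    rw [this]; exact mem_zpowers _)
  let act : centralizer ({z} : Set G) →* Function.End (E ⧸ N) :=
    { toFun := fun h => (⇑(QuotientGroup.map N N (cj h) (hcjN h)) : E ⧸ N → E ⧸ N)
      map_one' := funext fun x => QuotientGroup.induction_on x fun e => by
        show ((cj 1 e : E) : E ⧸ N) = e
        exact congrArg _ (Subtype.ext (by simp [cj]))
      map_mul' := fun a b => funext fun x => QuotientGroup.induction_on x fun e => by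
        show ((cj (a * b) e : E) : E ⧸ N) = (cj a (cj b e) : E)
        exact congrArg _ (Subtype.ext (by simp [cj, mul_assoc])) }
  let P : centralizer ({z} : Set G) →* Equiv.Perm (E ⧸ N) :=
    MonoidHom.mk' (fun h => ⟨act h, act h⁻¹, fun x => by
        show (act h⁻¹ * act h) x = x
        rw [← map_mul, inv_mul_cancel, map_one]; rfl, fun x => by
        show (act h * act h⁻¹) x = x
        rw [← map_mul, mul_inv_cancel, map_one]; rfl⟩)
      fun a b => Equiv.ext fun x => congrFun (map_mul act a b) x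
  have hP1 : ∀ h, P h 1 = 1 := fun h => show (QuotientGroup.map N N (cj h) (hcjN h)) 1 = 1 from map_one _
  have hPmk : ∀ (h : centralizer ({z} : Set G)) (e : E), P h (e : E ⧸ N) = ((cj h e : E) : E ⧸ N) :=
    fun h e => rfl
  have hNmem : ∀ y : E, y ∈ N → (y : G) = 1 ∨ (y : G) = z := by
    intro y hy
    obtain ⟨i, rfl⟩ := mem_zpowers_iff.1 hy
    rw [SubgroupClass.coe_zpow, ← zpow_mod_orderOf, D.hz]
    rcases Int.emod_two_eq_zero_or_one i with h | h <;> simp [h]
  have hker : ∀ h, P h = 1 → (h : G) ∈ E := by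
    intro h hh
    refine mem_of_trivial_action D h.2 fun e he => ?_
    have h1 := Equiv.ext_iff.1 hh ((⟨e, he⟩ : E) : E ⧸ N)
    rw [hPmk, Equiv.Perm.one_apply, eq_comm, QuotientGroup.eq] at h1
    rcases hNmem _ h1 with h2 | h2
    · left
      exact (inv_mul_eq_one.1 h2).symm
    · right
      exact inv_mul_eq_iff_eq_mul.1 h2
  have htsq : P t * P t = 1 := by
    obtain ⟨k, hk⟩ := ht
    exact (perm_small hQ (P t) (hP1 t)).2 ⟨k, by rw [← map_pow, ← hk, pow_orderOf_eq_one, map_one]⟩
  have ht2E : ((t * t : centralizer ({z} : Set G)) : G) ∈ E := hker _ (by rw [map_mul, htsq])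
  by_cases htr : ∀ x y : E ⧸ N, x ≠ 1 → y ≠ 1 → ∃ h, P h x = y
  · -- all noncentral elements have one image
    let φ : E →* Abelianization (centralizer ({z} : Set G)) := ab.comp (Subgroup.inclusion D.le)
    have hφN : ∀ y ∈ N, φ y = 1 := fun y hy => by
      rcases hNmem y hy with h | h
      · rw [show y = 1 from Subtype.ext h, map_one]
      · rw [show y = ⟨z, D.mem⟩ from Subtype.ext h]; exact hzA _
    let φq : E ⧸ N →* Abelianization (centralizer ({z} : Set G)) := QuotientGroup.lift N φ fun y hy => hφN y hy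
    have hinv : ∀ h x, φq (P h x) = φq x := fun h x => QuotientGroup.induction_on x fun e => by
      rw [hPmk]
      show ab (Subgroup.inclusion D.le (cj h e)) = ab (Subgroup.inclusion D.le e)
      have : Subgroup.inclusion D.le (cj h e) = h * Subgroup.inclusion D.le e * h⁻¹ := Subtype.ext rfl
      rw [this, map_mul, map_mul, map_inv, mul_inv_cancel_comm]
    have hconst : ∀ x y : E ⧸ N, x ≠ 1 → y ≠ 1 → φq x = φq y := fun x y hx hy => by
      obtain ⟨h, hh⟩ := htr x y hx hy
      rw [← hh, hinv]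
    -- the square of t, as an element of E
    set w : E := ⟨_, ht2E⟩ with hw
    have hgoal : φq (w : E ⧸ N) = 1 := by
      by_cases hw1 : (w : E ⧸ N) = 1
      · rw [hw1, map_one]
      · by_cases hex : ∃ y : E ⧸ N, y ≠ 1 ∧ y ≠ (w : E ⧸ N)
        · obtain ⟨y, hy1, hyw⟩ := hex
          have hy' : (y * (w : E ⧸ N)) ≠ 1 := fun h => hyw (by
            rw [eq_inv_of_mul_eq_one_left h]
            refine inv_eq_of_mul_eq_one_right ?_
            rw [← QuotientGroup.mk_mul, QuotientGroup.eq_one_iff]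
            rcases D.sq _ w.2 with h' | h'
            · rw [show w * w = 1 from Subtype.ext h']; exact N.one_mem
            · rw [show w * w = ⟨z, D.mem⟩ from Subtype.ext h']; exact mem_zpowers _)
          have h1 := hconst _ _ hy' hy1
          rw [map_mul, mul_eq_left] at h1
          exact h1
        · -- the quotient would be cyclic
          exfalso
          push Not at hex
          have hcomm : ∀ a b : E, a * b = b * a := by
            intro a b
            have hc : ∀ a : E, a ∈ N ∨ w⁻¹ * a ∈ N := fun a => by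
              by_cases ha : (a : E ⧸ N) = 1
              · exact Or.inl ((QuotientGroup.eq_one_iff a).1 ha)
              · exact Or.inr (QuotientGroup.eq.1 (hex _ ha).symm)
            have hNc : ∀ a ∈ N, ∀ b : E, Commute a b := fun a ha b => by
              rcases hNmem a ha with h | h
              · exact Subtype.ext (show (a : G) * b = b * a by rw [h]; simp)
              · exact Subtype.ext (show (a : G) * b = b * a by rw [h]; exact D.zc (D.le b.2))
            rcases hc a with ha | ha
            · exact hNc a ha b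
            rcases hc b with hb | hb
            · exact (hNc b hb a).symm
            have ea : a = w * (w⁻¹ * a) := by group
            have eb : b = w * (w⁻¹ * b) := by group
            rw [ea, eb]
            exact (((Commute.refl w).mul_right (hNc _ hb w).symm).mul_left ((hNc _ ha _)))
          apply hw1
          rw [QuotientGroup.eq_one_iff]
          rcases D.cen (w : G) w.2 (fun f hf => congrArg Subtype.val (hcomm w ⟨f, hf⟩)) with h | h
          · rw [show w = 1 from Subtype.ext h]; exact N.one_mem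
          · rw [show w = ⟨z, D.mem⟩ from Subtype.ext h]; exact mem_zpowers _
    show ab t ^ 2 = 1
    rw [pow_two, ← map_mul]
    exact hgoal
  · -- a fixed point forces the centraliser to be a two-group
    exfalso
    push Not at htr
    obtain ⟨x, y, hx, hy, hxy⟩ := htr
    have hfixpt : ∃ v : E ⧸ N, v ≠ 1 ∧ ∀ h, P h v = v := by
      by_contra hno
      push Not at hno
      have := Fintype.ofFinite (E ⧸ N)
      obtain ⟨a, ha⟩ := hno x hx
      obtain ⟨b, hb⟩ := hno y hy
      have h1 : P a x ≠ 1 := fun h => hx ((P a).injective (by rw [h, hP1]))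
      have h2 : P b y ≠ 1 := fun h => hy ((P b).injective (by rw [h, hP1]))
      have h3 : P a x ≠ y := hxy a
      have h4 : P b y ≠ x := fun h => hxy b⁻¹ (by rw [map_inv, ← h, Equiv.Perm.inv_def, Equiv.symm_apply_apply])
      have h5 : P a x ≠ P b y := fun h => hxy (b⁻¹ * a) (by
        rw [map_mul, Equiv.Perm.mul_apply, h, map_inv, Equiv.Perm.inv_def, Equiv.symm_apply_apply])
      have hxy' : x ≠ y := fun h => hxy 1 (by rw [map_one, Equiv.Perm.one_apply, h])
      have h5c : ({1, x, y, P a x, P b y} : Finset (E ⧸ N)).card = 5 := by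
        rw [Finset.card_insert_of_notMem, Finset.card_insert_of_notMem, Finset.card_insert_of_notMem,
          Finset.card_insert_of_notMem, Finset.card_singleton] <;>
        simp [hx.symm, hy.symm, hxy', Ne.symm h1, Ne.symm h2, Ne.symm ha, Ne.symm hb, Ne.symm h3, Ne.symm h4, h5]
      have := Finset.card_le_univ ({1, x, y, P a x, P b y} : Finset (E ⧸ N))
      rw [← Nat.card_eq_fintype_card] at this
      omega
    obtain ⟨v, hv1, hv⟩ := hfixpt
    have hsqE : ∀ h : centralizer ({z} : Set G), ((h * h : centralizer ({z} : Set G)) : G) ∈ E := fun h =>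
      hker _ (by rw [map_mul]; exact (perm_small hQ (P h) (hP1 h)).1 ⟨v, hv1, hv h⟩)
    refine htE (hcore _ ?_ le_rfl (fun h hh x hx => mul_mem (mul_mem hh hx) (inv_mem hh)) t.2)
    intro g
    obtain ⟨k, hk⟩ := D.two ⟨_, hsqE g⟩
    refine ⟨k + 1, Subtype.ext ?_⟩
    have h := congrArg Subtype.val hk
    push_cast at h ⊢
    rw [pow_succ', pow_mul, pow_two]
    exact h

/-- The two-part of the abelianization has exponent two. -/
theorem abelianization_sq (D : Setup z E) (hres : Cfsg.pResidual 2 G = ⊤)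
    (hcore : ∀ P : Subgroup G, IsPGroup 2 P → P ≤ centralizer ({z} : Set G) →
      (∀ h ∈ centralizer ({z} : Set G), ∀ x ∈ P, h * x * h⁻¹ ∈ P) → P ≤ E)
    (hna : ¬ ∀ a ∈ E, ∀ b ∈ E, a * b = b * a)
    (q : Abelianization (centralizer ({z} : Set G))) (hq : ∃ k : ℕ, orderOf q = 2 ^ k) : q ^ 2 = 1 := by
  classical
  by_contra hq2
  let ab : centralizer ({z} : Set G) →* Abelianization (centralizer ({z} : Set G)) := Abelianization.of
  obtain ⟨a₀, ha₀, b₀, hb₀, hab₀⟩ := exists_commutator_eq D le_rfl hna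
  have hzA : ∀ hz : z ∈ centralizer ({z} : Set G), ab ⟨z, hz⟩ = 1 := fun hz => by
    have e : (⟨z, hz⟩ : centralizer ({z} : Set G)) =
        ⟨a₀, D.le ha₀⟩ * ⟨b₀, D.le hb₀⟩ * ⟨a₀, D.le ha₀⟩⁻¹ * ⟨b₀, D.le hb₀⟩⁻¹ := Subtype.ext hab₀
    rw [e, map_mul, map_mul, map_mul, map_inv, map_inv, mul_inv_cancel_comm, mul_inv_cancel]
  obtain ⟨g, rfl⟩ : ∃ g, ab g = q := QuotientGroup.mk_surjective q
  by_cases hE : Nat.card E ≤ 8
  · -- pass to the two-part of g
    obtain ⟨a, b, hb, hab⟩ := Nat.exists_eq_two_pow_mul_odd (orderOf_pos g).ne'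
    have ht : ∃ k : ℕ, orderOf (g ^ b) = 2 ^ k :=
      ⟨a, by rw [orderOf_pow' g hb.pos.ne', hab, Nat.gcd_mul_left_left, Nat.mul_div_cancel _ hb.pos]⟩
    have h : ab (g ^ b) ^ 2 = 1 := small_case D hcore hE hzA ht
    rw [map_pow, ← pow_mul, mul_comm, pow_mul] at h
    obtain ⟨k, hk⟩ := hq
    have h1 : orderOf (ab g ^ 2) ∣ b := orderOf_dvd_iff_pow_eq_one.2 h
    have h2 : orderOf (ab g ^ 2) ∣ 2 ^ k := hk ▸ orderOf_pow_dvd 2
    have h3 := Nat.dvd_gcd h1 h2
    rw [((Nat.coprime_two_right.2 hb).pow_right k).gcd_eq_one, Nat.dvd_one, orderOf_eq_one_iff] at h3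
    exact hq2 h3
  obtain ⟨ψ, ⟨y, hy⟩, hψ⟩ := exists_sign_char hq hq2
  let χ : centralizer ({z} : Set G) →* ℤˣ := ψ.comp ab
  obtain ⟨g', rfl⟩ : ∃ g', ab g' = y := QuotientGroup.mk_surjective y
  obtain ⟨t, ht2, htne⟩ := exists_two_elem χ (h := g') hy
  obtain ⟨hP, hPle⟩ := isPGroup_sup_zpowers D ht2
  refine htne (eq_one_of_small D hres χ ?_ ?_ hP le_sup_right hPle (t := (t : G)) (mem_sup_left (mem_zpowers _)))
  · intro k A hk hA hzA' hcard a ha hmem
    have hAE : A ≤ E := fun e he => ((hA e).1 he).1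
    obtain ⟨a₁, ha₁, b₁, hb₁, hab⟩ := exists_commutator_eq D hAE fun hab => by
      have h1 := card_abelian_sq_le D hAE hab
      nlinarith [h1, hcard, hE]
    have hzk : ab ⟨k⁻¹ * z * k, ((hA z).1 hzA').2⟩ = 1 := by
      have e : (⟨k⁻¹ * z * k, ((hA z).1 hzA').2⟩ : centralizer ({z} : Set G)) =
          ⟨_, ((hA a₁).1 ha₁).2⟩ * ⟨_, ((hA b₁).1 hb₁).2⟩ * ⟨_, ((hA a₁).1 ha₁).2⟩⁻¹ *
            ⟨_, ((hA b₁).1 hb₁).2⟩⁻¹ := Subtype.ext (by
        show k⁻¹ * z * k = k⁻¹ * a₁ * k * (k⁻¹ * b₁ * k) * (k⁻¹ * a₁ * k)⁻¹ * (k⁻¹ * b₁ * k)⁻¹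
        rw [hab]; group)
      rw [e, map_mul, map_mul, map_mul, map_inv, map_inv, mul_inv_cancel_comm, mul_inv_cancel]
    refine hψ (ab ⟨_, hmem⟩) ?_
    rw [← map_pow]
    rcases D.sq a (hAE ha) with h | h
    · rw [show (⟨_, hmem⟩ : centralizer ({z} : Set G)) ^ 2 = 1 from Subtype.ext (by
        push_cast
        rw [pow_two, show k⁻¹ * a * k * (k⁻¹ * a * k) = k⁻¹ * (a * a) * k by group, h]; group), map_one]
    · rw [show (⟨_, hmem⟩ : centralizer ({z} : Set G)) ^ 2 = ⟨k⁻¹ * z * k, ((hA z).1 hzA').2⟩ from Subtype.ext (by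
        push_cast
        rw [pow_two, show k⁻¹ * a * k * (k⁻¹ * a * k) = k⁻¹ * (a * a) * k by group, h])]
      exact hzk
  · intro k A hk hA hzA' hcard hmem
    refine hψ (ab ⟨_, hmem⟩) ?_
    rw [← map_pow, show (⟨_, hmem⟩ : centralizer ({z} : Set G)) ^ 2 = 1 from Subtype.ext (by
        push_cast
        rw [pow_two, show k⁻¹ * z * k * (k⁻¹ * z * k) = k⁻¹ * (z * z) * k by group, D.zz]; group), map_one]

end CfsgLib.CharsMore.ExtraTransfer
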