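import Cfsg.Agent.Lib.Involutions.ExtraspecialTransfer

/-!
The commutator pairing of an extraspecial 2-group inside an involution centraliser, by counting.
-/

set_option autoImplicit false
set_option linter.unusedSectionVars false

namespace CfsgLib.CharsMore.ExtraTransfer

open Subgroup CfsgLib.Involutions.ExtraTransfer

variable {G : Type*} [Group G] [Finite G] {z : G} {E : Subgroup G}

open Classical in
/-- The sign of a commutation. -/
noncomputable def sgn (e h : G) : ℤ := if e * h = h * e then 1 else -1

theorem sgn_symm (e h : G) : sgn e h = sgn h e := by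
  classical
  unfold sgn
  exact if_congr eq_comm rfl rfl

theorem sgn_eq_one {e h : G} (h1 : e * h = h * e) : sgn e h = 1 := if_pos h1

theorem sgn_mul (D : Setup z E) {e h k : G} (he : e ∈ E) (hh : h ∈ E) (hk : k ∈ E) :
    sgn e (h * k) = sgn e h * sgn e k := by
  have hz1 : z ≠ 1 := fun h0 => by have := D.hz; rw [h0, orderOf_one] at this; omega
  have hzh : z * h = h * z := D.zc (D.le hh)
  rcases D.comm e he h hh with a | a <;> rcases D.comm e he k hk with b | b
  · rw [sgn_eq_one a, sgn_eq_one b, sgn_eq_one (by rw [← mul_assoc, a, mul_assoc, b, mul_assoc]), one_mul]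
  · have hne : e * (h * k) ≠ h * k * e := by
      rw [← mul_assoc, a, mul_assoc, b]
      intro h0
      apply hz1
      have h2 : h * (k * e) * z = h * (k * e) := by
        calc h * (k * e) * z = h * (k * e * z) := by group
          _ = h * (k * e) := by rw [h0]; group
      simpa using h2
    have hnk : e * k ≠ k * e := fun h0 => hz1 (by rw [h0] at b; simpa using b.symm)
    rw [sgn_eq_one a, sgn, sgn, if_neg hne, if_neg hnk, one_mul]
  · have hne : e * (h * k) ≠ h * k * e := by
      rw [← mul_assoc, a, mul_assoc, D.zc (D.le hk), ← mul_assoc, mul_assoc h e k, b]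
      intro h0
      apply hz1
      have h2 : h * (k * e) * z = h * (k * e) := by
        calc h * (k * e) * z = h * (k * e) * z := rfl
          _ = h * k * e := h0
          _ = h * (k * e) := by group
      simpa using h2
    have hnh : e * h ≠ h * e := fun h0 => hz1 (by rw [h0] at a; simpa using a.symm)
    rw [sgn_eq_one b, sgn, sgn, if_neg hne, if_neg hnh, mul_one]
  · have he' : e * (h * k) = h * k * e := by
      calc e * (h * k) = h * e * z * k := by rw [← mul_assoc, a]
        _ = h * e * (z * k) := by group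
        _ = h * (e * k) * z := by rw [D.zc (D.le hk)]; group
        _ = h * (k * e) * (z * z) := by rw [b]; group
        _ = h * k * e := by rw [D.zz]; group
    have hnh : e * h ≠ h * e := fun h0 => hz1 (by rw [h0] at a; simpa using a.symm)
    have hnk : e * k ≠ k * e := fun h0 => hz1 (by rw [h0] at b; simpa using b.symm)
    rw [sgn_eq_one he', sgn, sgn, if_neg hnh, if_neg hnk]
    norm_num

/-- A sign that is multiplicative and somewhere negative sums to zero. -/
theorem sum_eq_zero_of_neg (S : Subgroup G) [Fintype S] (f : G → ℤ)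
    (hmul : ∀ h ∈ S, ∀ k ∈ S, f (h * k) = f h * f k) {h0 : G} (hh0 : h0 ∈ S) (hneg : f h0 = -1) :
    ∑ h : S, f h = 0 := by
  have h1 : ∑ h : S, f h = ∑ h : S, f (h * (⟨h0, hh0⟩ : S) : S) :=
    (Equiv.sum_comp (Equiv.mulRight (⟨h0, hh0⟩ : S)) (fun h : S => f h)).symm
  have h2 : ∀ h : S, f (h * (⟨h0, hh0⟩ : S) : S) = -f h := fun h => by
    push_cast; rw [hmul _ h.2 _ hh0, hneg]; ring
  rw [Finset.sum_congr rfl fun h _ => h2 h, Finset.sum_neg_distrib] at h1
  omega

/-- The column sums of the commutator pairing. -/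
theorem sum_sgn (D : Setup z E) [Fintype E] {h : G} (hh : h ∈ E) [Decidable (h = 1 ∨ h = z)] :
    ∑ e : E, sgn (e : G) h = if h = 1 ∨ h = z then (Nat.card E : ℤ) else 0 := by
  classical
  split_ifs with hc
  · have : ∀ e : E, sgn (e : G) h = 1 := fun e => sgn_eq_one (by
      rcases hc with rfl | rfl
      · simp
      · exact (D.zc (D.le e.2)).symm)
    rw [Finset.sum_congr rfl fun e _ => this e, Finset.sum_const, Finset.card_univ, Nat.card_eq_fintype_card]
    simp
  · obtain ⟨e0, he0, hne⟩ : ∃ e0 ∈ E, h * e0 ≠ e0 * h := by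
      by_contra hall
      push Not at hall
      exact hc (D.cen h hh hall)
    refine (Finset.sum_congr rfl fun e _ => sgn_symm _ h).trans
      (sum_eq_zero_of_neg E (sgn h) (fun a ha b hb => sgn_mul D hh ha hb) he0 (if_neg hne))

/-- An abelian subgroup of an extraspecial group is small. -/
theorem card_abelian_sq_le (D : Setup z E) {A : Subgroup G} (hA : A ≤ E)
    (hab : ∀ a ∈ A, ∀ b ∈ A, a * b = b * a) : Nat.card A * Nat.card A ≤ 2 * Nat.card E := by
  classical
  have := Fintype.ofFinite E
  have := Fintype.ofFinite A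
  -- rows
  have hrow : ∀ e : E, (if (∀ a : A, (e : G) * a = a * e) then (Nat.card A : ℤ) else 0) = ∑ a : A, sgn (e : G) a := by
    intro e
    split_ifs with h
    · rw [Finset.sum_congr rfl fun a _ => sgn_eq_one (h a), Finset.sum_const, Finset.card_univ,
        Nat.card_eq_fintype_card]
      simp
    · push Not at h
      obtain ⟨a, ha⟩ := h
      exact (sum_eq_zero_of_neg A (sgn (e : G)) (fun a ha b hb => sgn_mul D e.2 (hA ha) (hA hb)) a.2 (if_neg ha)).symm
  have hcols : ∑ a : A, ∑ e : E, sgn (e : G) a ≤ 2 * (Nat.card E : ℤ) := by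
    rw [Finset.sum_congr rfl fun a _ => sum_sgn D (hA a.2), Finset.sum_ite, Finset.sum_const_zero, add_zero,
      Finset.sum_const, nsmul_eq_mul]
    refine mul_le_mul_of_nonneg_right ?_ (Int.natCast_nonneg _)
    have hc : (Finset.univ.filter fun a : A => (a : G) = 1 ∨ (a : G) = z).card ≤ ({1, z} : Finset G).card :=
      Finset.card_le_card_of_injOn (fun a : A => (a : G)) (fun a ha => by
        rcases (Finset.mem_filter.1 ha).2 with h | h <;> simp [h]) (fun a _ b _ h => Subtype.ext h)
    exact_mod_cast le_trans hc Finset.card_le_two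
  rw [Finset.sum_comm, ← Finset.sum_congr rfl fun e _ => hrow e, Finset.sum_ite, Finset.sum_const_zero, add_zero,
    Finset.sum_const, nsmul_eq_mul] at hcols
  have hsub : Nat.card A ≤ (Finset.univ.filter fun e : E => ∀ a : A, (e : G) * a = a * e).card := by
    rw [Nat.card_eq_fintype_card, ← Finset.card_univ]
    exact Finset.card_le_card_of_injOn (fun a : A => (⟨a, hA a.2⟩ : E)) (fun a _ => Finset.mem_filter.2
      ⟨Finset.mem_univ _, fun b => hab a a.2 b b.2⟩) (fun a _ b _ h => Subtype.ext (congrArg Subtype.val h :))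
  have h3 : ((Nat.card A * Nat.card A : ℕ) : ℤ) ≤ ((2 * Nat.card E : ℕ) : ℤ) := by
    push_cast
    exact le_trans (mul_le_mul_of_nonneg_right (by exact_mod_cast hsub) (Int.natCast_nonneg _)) hcols
  exact_mod_cast h3

/-- Every sign character of an extraspecial group killing the centre is a commutation sign. -/
theorem exists_sgn_eq (D : Setup z E) (ψ : G → ℤ) (hpm : ∀ h ∈ E, ψ h = 1 ∨ ψ h = -1)
    (hmul : ∀ h ∈ E, ∀ k ∈ E, ψ (h * k) = ψ h * ψ k) (h1 : ψ 1 = 1) (hz : ψ z = 1) :
    ∃ e ∈ E, ∀ h ∈ E, sgn e h = ψ h := by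
  classical
  have := Fintype.ofFinite E
  by_contra hno
  push Not at hno
  have hrow : ∀ e : E, ∑ h : E, sgn (e : G) h * ψ h = 0 := by
    intro e
    obtain ⟨h0, hh0, hne⟩ := hno e e.2
    refine sum_eq_zero_of_neg E (fun h => sgn (e : G) h * ψ h) (fun a ha b hb => by
      simp only [sgn_mul D e.2 ha hb, hmul a ha b hb]; ring) hh0 ?_
    rcases hpm h0 hh0 with h | h <;> unfold sgn at hne ⊢ <;> simp only [h] at hne ⊢ <;>
      split_ifs at hne ⊢ <;> simp_all
  have hz1 : z ≠ 1 := fun h0 => by have := D.hz; rw [h0, orderOf_one] at this; omega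
  have htot : ∑ e : E, ∑ h : E, sgn (e : G) h * ψ h = 2 * (Nat.card E : ℤ) := by
    rw [Finset.sum_comm]
    simp_rw [← Finset.sum_mul]
    rw [Finset.sum_congr rfl fun h _ => by rw [sum_sgn D h.2]]
    rw [← Finset.sum_subset (Finset.subset_univ ({(1 : E), ⟨z, D.mem⟩} : Finset E)) (fun h _ hh => by
      rw [if_neg (fun hor => hh ?_), zero_mul]
      rcases hor with h' | h'
      · exact Finset.mem_insert.2 (Or.inl (Subtype.ext h'))
      · exact Finset.mem_insert.2 (Or.inr (Finset.mem_singleton.2 (Subtype.ext h'))))]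
    rw [Finset.sum_pair (fun h0 => hz1 (congrArg Subtype.val h0).symm)]
    simp [h1, hz]
    ring
  rw [Finset.sum_eq_zero fun e _ => hrow e] at htot
  have : 0 < Nat.card E := Nat.card_pos
  omega

end CfsgLib.CharsMore.ExtraTransfer
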