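import Cfsg.Agent.Lib.CharsMore.ExtraTransfer.Cocycle
import Cfsg.Agent.Lib.CharsMore.ExtraTransfer.Pairing

/-!
Doubling of blocks along a chain of subgroups of an extraspecial subgroup, for a sign valued
transfer cocycle.
-/

set_option autoImplicit false
set_option linter.unusedSectionVars false

namespace CfsgLib.CharsMore.ExtraTransfer

open Subgroup MulAction CfsgLib.Involutions.ExtraTransfer
open scoped Pointwise

variable {G : Type*} [Group G] [Finite G] {H : Subgroup G} (χ : H →* ℤˣ)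

open Classical in
/-- The orbit of a coset under a subgroup, as a finite set. -/
noncomputable def orb (M : Subgroup G) (q : G ⧸ H) : Finset (G ⧸ H) :=
  (Set.toFinite {p : G ⧸ H | ∃ a ∈ M, a • q = p}).toFinset

theorem mem_orb {M : Subgroup G} {q p : G ⧸ H} : p ∈ orb M q ↔ ∃ a ∈ M, a • q = p := by
  simp [orb]

open Classical in
theorem mem_smul_orb {M : Subgroup G} {q p : G ⧸ H} {x : G} :
    p ∈ x • orb M q ↔ ∃ a ∈ M, (x * a) • q = p := by
  rw [Finset.mem_smul_finset]
  constructor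
  · rintro ⟨y, hy, rfl⟩
    obtain ⟨a, ha, rfl⟩ := mem_orb.1 hy
    exact ⟨a, ha, mul_smul x a q⟩
  · rintro ⟨a, ha, rfl⟩
    exact ⟨a • q, mem_orb.2 ⟨a, ha, rfl⟩, (mul_smul x a q).symm⟩

open Classical in
/-- A block is stable under an element mapping its base point into it and normalising the subgroup. -/
theorem smul_orb_eq {M : Subgroup G} {q : G ⧸ H} {x : G} (hn : ∀ a ∈ M, x * a * x⁻¹ ∈ M)
    (hq : ∃ a ∈ M, a • q = x • q) : x • orb M q = orb M q := by
  obtain ⟨b, hb, hbq⟩ := hq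
  refine Finset.eq_of_subset_of_card_le (fun p hp => ?_) (by rw [Finset.card_smul_finset])
  obtain ⟨a, ha, rfl⟩ := mem_smul_orb.1 hp
  refine mem_orb.2 ⟨x * a * x⁻¹ * b, M.mul_mem (hn a ha) hb, ?_⟩
  rw [mul_smul, hbq, ← mul_smul, inv_mul_cancel_right]

open Classical in
theorem smul_orb_of_mem {M : Subgroup G} {q : G ⧸ H} {x : G} (hx : x ∈ M) : x • orb M q = orb M q :=
  smul_orb_eq (fun a ha => M.mul_mem (M.mul_mem hx ha) (M.inv_mem hx)) ⟨x, hx, rfl⟩

open Classical in
theorem smul_orb_of_fix {M : Subgroup G} {q : G ⧸ H} {x : G} (hn : ∀ a ∈ M, x * a * x⁻¹ ∈ M)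
    (hx : x • q = q) : x • orb M q = orb M q :=
  smul_orb_eq hn ⟨1, M.one_mem, by rw [one_smul, hx]⟩

open Classical in
theorem blk_one (B : Finset (G ⧸ H)) : blk χ B 1 = 1 :=
  Finset.prod_eq_one fun q _ => coc_one χ q

open Classical in
theorem blk_mul_of_fix {B : Finset (G ⧸ H)} {g h : G} (h1 : h • B = B) :
    blk χ B (g * h) = blk χ B g * blk χ B h := by
  rw [blk_mul, h1]

theorem blk_orb_bot {q : G ⧸ H} {M : Subgroup G} (hM : ∀ a ∈ M, a • q = q) (x : G) :
    blk χ (orb M q) x = coc χ x q := by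
  have : orb M q = {q} := by
    refine Finset.eq_singleton_iff_unique_mem.2 ⟨mem_orb.2 ⟨1, M.one_mem, one_smul G q⟩, fun p hp => ?_⟩
    obtain ⟨a, ha, rfl⟩ := mem_orb.1 hp
    exact hM a ha
  rw [this, blk, Finset.prod_singleton]

/-- One level of the chain of blocks at a coset. -/
structure Level (E : Subgroup G) (q : G ⧸ H) (R M : Subgroup G) : Prop where
  le : M ≤ E
  stab : ∀ e ∈ E, e • q = q → e ∈ M
  nor : ∀ r ∈ R, ∀ a ∈ M, r * a * r⁻¹ ∈ M
  fix : ∀ r ∈ R, r • q = q

/-- The block value vanishes on the subgroup. -/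
def KillsM (q : G ⧸ H) (M : Subgroup G) : Prop := ∀ a ∈ M, blk χ (orb M q) a = 1

/-- The block value vanishes on the subgroup and on the stabiliser. -/
def KillsAll (q : G ⧸ H) (R M : Subgroup G) : Prop :=
  KillsM χ q M ∧ ∀ r ∈ R, blk χ (orb M q) r = 1

variable {E : Subgroup G} {q : G ⧸ H} {R M : Subgroup G}

open Classical in
theorem Level.smul_eq (L : Level E q R M) {r : G} (hr : r ∈ R) : r • orb M q = orb M q :=
  smul_orb_of_fix (L.nor r hr) (L.fix r hr)

open Classical in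
/-- The doubling step. -/
theorem Level.double (L : Level E q R M) {f : G} (hfE : f ∈ E) (hfM : f ∉ M)
    (hfn : ∀ a ∈ M, f * a * f⁻¹ ∈ M) (hff : f * f ∈ M) (hfR : ∀ r ∈ R, r⁻¹ * f⁻¹ * r * f ∈ M) :
    ∃ M' : Subgroup G, Level E q R M' ∧ M ≤ M' ∧ f ∈ M' ∧ (∀ y, y ∈ M' ↔ y ∈ M ∨ f⁻¹ * y ∈ M) ∧
      Nat.card M' = 2 * Nat.card M ∧
      (∀ x, (x ∈ R ∨ x ∈ M) →
        blk χ (orb M' q) x = blk χ (orb M q) (x⁻¹ * f⁻¹ * x * f)) ∧
      blk χ (orb M' q) f = blk χ (orb M q) (f * f) := by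
  have hfni : ∀ a ∈ M, f⁻¹ * a * f ∈ M := by
    intro a ha
    have h1 := M.mul_mem (M.mul_mem (M.inv_mem hff) (hfn a ha)) hff
    have e : (f * f)⁻¹ * (f * a * f⁻¹) * (f * f) = f⁻¹ * a * f := by group
    rwa [e] at h1
  have hfi : f⁻¹ * f⁻¹ ∈ M := by simpa [mul_inv_rev] using M.inv_mem hff
  let M' : Subgroup G :=
    { carrier := {y | y ∈ M ∨ f⁻¹ * y ∈ M}
      one_mem' := Or.inl M.one_mem
      mul_mem' := by
        rintro a b (ha | ha) (hb | hb)
        · exact Or.inl (M.mul_mem ha hb)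
        · refine Or.inr ?_
          have e : f⁻¹ * (a * b) = (f⁻¹ * a * f) * (f⁻¹ * b) := by group
          rw [e]; exact M.mul_mem (hfni a ha) hb
        · refine Or.inr ?_
          rw [← mul_assoc]; exact M.mul_mem ha hb
        · refine Or.inl ?_
          have e : a * b = f * (f⁻¹ * a) * f⁻¹ * (f * f) * (f⁻¹ * b) := by group
          rw [e]; exact M.mul_mem (M.mul_mem (hfn _ ha) hff) hb
      inv_mem' := by
        rintro a (ha | ha)
        · exact Or.inl (M.inv_mem ha)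
        · refine Or.inr ?_
          have e : f⁻¹ * a⁻¹ = f⁻¹ * (f⁻¹ * a)⁻¹ * f * (f⁻¹ * f⁻¹) := by group
          rw [e]; exact M.mul_mem (hfni _ (M.inv_mem ha)) hfi }
  have hmem : ∀ y, y ∈ M' ↔ y ∈ M ∨ f⁻¹ * y ∈ M := fun y => Iff.rfl
  have hMM' : M ≤ M' := fun y hy => Or.inl hy
  have hfM' : f ∈ M' := Or.inr (by rw [inv_mul_cancel]; exact M.one_mem)
  have hcard : Nat.card M' = 2 * Nat.card M := by
    have e : (M' : Set G) = (M : Set G) ∪ (fun a => f * a) '' (M : Set G) := by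
      ext y
      constructor
      · rintro (h | h)
        · exact Or.inl h
        · exact Or.inr ⟨_, h, mul_inv_cancel_left f y⟩
      · rintro (h | ⟨a, ha, rfl⟩)
        · exact Or.inl h
        · exact Or.inr (by simpa using ha)
    have hd : Disjoint (M : Set G) ((fun a => f * a) '' (M : Set G)) := by
      rw [Set.disjoint_left]
      rintro y hy ⟨a, ha, rfl⟩
      exact hfM (by simpa using M.mul_mem hy (M.inv_mem ha))
    have hc := congrArg Set.ncard e
    rw [Set.ncard_union_eq hd, Set.ncard_image_of_injective _ (mul_right_injective f)] at hc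
    rw [← SetLike.coe_sort_coe, Nat.card_coe_set_eq, ← SetLike.coe_sort_coe M, Nat.card_coe_set_eq, hc]
    omega
  have L' : Level E q R M' := by
    refine ⟨?_, fun e he h => Or.inl (L.stab e he h), ?_, L.fix⟩
    · rintro y (h | h)
      · exact L.le h
      · simpa using E.mul_mem hfE (L.le h)
    · rintro r hr y (h | h)
      · exact Or.inl (L.nor r hr y h)
      · refine Or.inr ?_
        have h1 := L.nor r hr _ h
        have h2 := L.nor r hr _ (hfR r hr)
        have e : f⁻¹ * (r * y * r⁻¹) = (r * (r⁻¹ * f⁻¹ * r * f) * r⁻¹) * (r * (f⁻¹ * y) * r⁻¹) := by group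
        rw [e]; exact M.mul_mem h2 h1
  have horb : orb M' q = orb M q ∪ f • orb M q := by
    ext p
    rw [Finset.mem_union, mem_smul_orb, mem_orb, mem_orb]
    constructor
    · rintro ⟨y, hy | hy, rfl⟩
      · exact Or.inl ⟨y, hy, rfl⟩
      · exact Or.inr ⟨_, hy, by rw [mul_inv_cancel_left]⟩
    · rintro (⟨a, ha, rfl⟩ | ⟨a, ha, rfl⟩)
      · exact ⟨a, Or.inl ha, rfl⟩
      · exact ⟨f * a, Or.inr (by simpa using ha), rfl⟩
  have hdisj : Disjoint (orb M q) (f • orb M q) := by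
    rw [Finset.disjoint_left]
    intro p hp hp'
    obtain ⟨a, ha, rfl⟩ := mem_orb.1 hp
    obtain ⟨b, hb, hbp⟩ := mem_smul_orb.1 hp'
    have h1 : (a⁻¹ * (f * b)) • q = q := by rw [mul_smul, hbp, inv_smul_smul]
    have h2 := L.stab _ (E.mul_mem (E.inv_mem (L.le ha)) (E.mul_mem hfE (L.le hb))) h1
    have h3 := M.mul_mem (M.mul_mem ha h2) (M.inv_mem hb)
    rw [show a * (a⁻¹ * (f * b)) * b⁻¹ = f by group] at h3
    exact hfM h3
  set B := orb M q with hB
  have hsplit : ∀ x, blk χ (orb M' q) x = blk χ B x * blk χ (f • B) x := fun x => by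
    rw [horb, blk, Finset.prod_union hdisj]; rfl
  refine ⟨M', L', hMM', hfM', hmem, hcard, ?_, ?_⟩
  · intro x hx
    have hxB : x • B = B := hx.elim L.smul_eq smul_orb_of_mem
    have hc : x⁻¹ * f⁻¹ * x * f ∈ M := by
      rcases hx with hx | hx
      · exact hfR x hx
      · have e : x⁻¹ * f⁻¹ * x * f = x⁻¹ * (f⁻¹ * x * f) := by group
        rw [e]; exact M.mul_mem (M.inv_mem hx) (hfni x hx)
    set c := x⁻¹ * f⁻¹ * x * f with hcdef
    have hcB : c • B = B := smul_orb_of_mem hc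
    have hx' : (x * c) • B = B := by rw [mul_smul, hcB, hxB]
    have e1 : x * f = f * (x * c) := by rw [hcdef]; group
    have h1 := blk_mul χ B x f
    rw [e1, blk_mul_of_fix χ hx', blk_mul_of_fix χ hcB] at h1
    rw [hsplit]
    have h2 : blk χ (f • B) x = blk χ B x * blk χ B c := by
      apply mul_right_cancel (b := blk χ B f)
      rw [← h1]; ac_rfl
    rw [h2, ← mul_assoc, Int.units_mul_self, one_mul]
  · rw [hsplit, blk_mul χ B f f, mul_comm]

end CfsgLib.CharsMore.ExtraTransfer
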