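import Mathlib

/-!
The transfer as the product of a cocycle on the coset space, and the vanishing of products of
cocycles over invariant families of blocks.
-/

set_option autoImplicit false

namespace CfsgLib.CharsMore.ExtraTransfer

open Subgroup MulAction
open scoped Pointwise

variable {G : Type*} [Group G] {H : Subgroup G} {A : Type*} [CommGroup A]

theorem out_conj_mem (g : G) (q : G ⧸ H) : (g • q).out⁻¹ * (g * q.out) ∈ H := by
  rw [← QuotientGroup.eq, QuotientGroup.out_eq']
  conv_lhs => rw [← QuotientGroup.out_eq' q]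
  rfl

/-- The transfer cocycle of the section `Quotient.out`. -/
noncomputable def coc (φ : H →* A) (g : G) (q : G ⧸ H) : A :=
  φ ⟨(g • q).out⁻¹ * (g * q.out), out_conj_mem g q⟩

variable (φ : H →* A)

theorem coc_mul (g h : G) (q : G ⧸ H) : coc φ (g * h) q = coc φ g (h • q) * coc φ h q := by
  rw [coc, coc, coc, ← map_mul]
  refine congrArg φ (Subtype.ext ?_)
  show ((g * h) • q).out⁻¹ * (g * h * q.out) =
    (g • h • q).out⁻¹ * (g * (h • q).out) * ((h • q).out⁻¹ * (h * q.out))
  rw [mul_smul]; group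

theorem coc_one (q : G ⧸ H) : coc φ 1 q = 1 := by
  have h := coc_mul φ 1 1 q
  rwa [one_mul, one_smul, left_eq_mul] at h

theorem coc_of_fix (k : G) (x : G) (h : k⁻¹ * x * k ∈ H) :
    coc φ x (k : G ⧸ H) = φ ⟨k⁻¹ * x * k, h⟩ := by
  obtain ⟨j, hj⟩ := QuotientGroup.mk_out_eq_mul H k
  have hfix : x • (k : G ⧸ H) = k := by
    rw [MulAction.Quotient.smul_coe, smul_eq_mul, eq_comm, QuotientGroup.eq, ← mul_assoc]; exact h
  have e : (⟨(x • (k : G ⧸ H)).out⁻¹ * (x * (k : G ⧸ H).out), out_conj_mem x _⟩ : H) =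
      j⁻¹ * ⟨k⁻¹ * x * k, h⟩ * j := Subtype.ext (by
    show (x • (k : G ⧸ H)).out⁻¹ * (x * (k : G ⧸ H).out) = (j : G)⁻¹ * (k⁻¹ * x * k) * j
    rw [hfix, hj]; group)
  rw [coc, e, map_mul, map_mul, map_inv, mul_right_comm, inv_mul_cancel, one_mul]

open Classical in
theorem transfer_eq_prod [Finite G] [Fintype (G ⧸ H)] (g : G) :
    MonoidHom.transfer φ g = ∏ q : G ⧸ H, coc φ g q := by
  let T : H.LeftTransversal :=
    ⟨Set.range (fun q : G ⧸ H => q.out), isComplement_range_left (fun q => QuotientGroup.out_eq' q)⟩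
  have hT : ∀ q, ((T.2.leftQuotientEquiv q : T.1) : G) = q.out := fun q =>
    IsComplement.leftQuotientEquiv_apply (fun q => QuotientGroup.out_eq' q) q
  rw [MonoidHom.transfer_def φ T g, leftTransversals.diff]
  refine Eq.trans ?_ ((Fintype.prod_equiv (MulAction.toPerm g : Equiv.Perm (G ⧸ H)).symm
    (fun q => coc φ g (g⁻¹ • q)) (fun q => coc φ g q) fun q => rfl))
  refine Finset.prod_congr (Finset.ext fun q => by simp) fun q _ => ?_
  refine congrArg φ (Subtype.ext ?_)
  show ((T.2.leftQuotientEquiv q : T.1) : G)⁻¹ * ((g • T).2.leftQuotientEquiv q : G) = _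
  rw [smul_apply_eq_smul_apply_inv_smul, hT, hT, smul_eq_mul]
  show q.out⁻¹ * (g * (g⁻¹ • q).out) = (g • g⁻¹ • q).out⁻¹ * (g * (g⁻¹ • q).out)
  rw [smul_inv_smul]

/-- A cocycle, trivial on stabilisers, has trivial product over an invariant finite set. -/
theorem prod_eq_one_of_stab {β : Type*} [MulAction G β] (T : Subgroup G) (S : Finset β)
    (C : G → β → A) (hS : ∀ t ∈ T, ∀ b ∈ S, t • b ∈ S)
    (hC : ∀ s ∈ T, ∀ t ∈ T, ∀ b ∈ S, C (s * t) b = C s (t • b) * C t b)
    (hstab : ∀ t ∈ T, ∀ b ∈ S, t • b = b → C t b = 1) {t : G} (ht : t ∈ T) :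
    ∏ b ∈ S, C t b = 1 := by
  classical
  -- representatives of the orbits
  let rep : β → β := fun b => (Quotient.mk (orbitRel T β) b).out
  have hrep : ∀ b, ∃ s : T, s • rep b = b := fun b => by
    have h : (orbitRel T β).r b (rep b) := (orbitRel T β).symm (Quotient.mk_out b)
    rw [orbitRel_apply] at h
    exact mem_orbit_iff.1 h
  choose s hs using hrep
  have hrepS : ∀ b ∈ S, rep b ∈ S := fun b hb => by
    have h := hS _ ((s b)⁻¹).2 b hb
    rwa [show ((s b)⁻¹ : T).1 • b = rep b from inv_smul_eq_iff.2 (hs b).symm] at h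
  have hrepeq : ∀ b, rep (t • b) = rep b := fun b => by
    refine congrArg Quotient.out (Quotient.sound ?_)
    exact (orbitRel_apply (G := T)).2 ⟨⟨t, ht⟩, rfl⟩
  have key : ∀ b ∈ S, C t b * C (s b) (rep b) = C (s (t • b)) (rep (t • b)) := by
    intro b hb
    set u : T := (s (t • b))⁻¹ * (⟨t, ht⟩ * s b) with hu
    have hufix : (u : G) • rep b = rep b := by
      show u • rep b = rep b
      rw [hu, mul_smul, mul_smul, hs, inv_smul_eq_iff]
      conv_rhs => rw [← hrepeq b]
      rw [hs]; rfl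
    have h1 : C t b * C (s b) (rep b) = C (t * s b) (rep b) := by
      rw [hC t ht _ (s b).2 _ (hrepS b hb)]
      rw [show ((s b : T) : G) • rep b = b from hs b]
    rw [h1, show t * (s b : G) = (s (t • b) : G) * u by rw [hu]; push_cast; group,
      hC _ (s _).2 _ u.2 _ (hrepS b hb), hufix, hstab _ u.2 _ (hrepS b hb) hufix, mul_one, hrepeq]
  have hperm : ∏ b ∈ S, C (s (t • b)) (rep (t • b)) = ∏ b ∈ S, C (s b) (rep b) :=
    Finset.prod_bij (fun b _ => t • b) (fun b hb => hS t ht b hb)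
      (fun a _ b _ h => smul_left_cancel t h)
      (fun b hb => ⟨t⁻¹ • b, hS _ (T.inv_mem ht) b hb, smul_inv_smul _ _⟩) fun b _ => rfl
  have h2 := Finset.prod_congr rfl key
  rw [Finset.prod_mul_distrib, hperm] at h2
  exact mul_eq_right.1 h2

/-- The product of the cocycle over a block. -/
noncomputable def blk (B : Finset (G ⧸ H)) (g : G) : A := ∏ q ∈ B, coc φ g q

theorem blk_mul [DecidableEq (G ⧸ H)] (B : Finset (G ⧸ H)) (g h : G) :
    blk φ B (g * h) = blk φ (h • B) g * blk φ B h := by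
  rw [blk, blk, blk, show h • B = B.image (fun q => h • q) from rfl,
    Finset.prod_image fun a _ b _ h' => smul_left_cancel h h']
  simp only [coc_mul, Finset.prod_mul_distrib]

end CfsgLib.CharsMore.ExtraTransfer
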