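import Cfsg.Agent.Lib.CharsMore.ExtraTransfer.Main

/-!
An involution outside an extraspecial subgroup centralises less than half of it; a centraliser
with a subgroup of index two fuses the central involution into the extraspecial subgroup.
-/

set_option autoImplicit false
set_option linter.unusedSectionVars false

namespace CfsgLib.CharsMore.ExtraTransfer

open Subgroup CfsgLib.Involutions.ExtraTransfer

variable {G : Type*} [Group G] [Finite G] {z : G} {E : Subgroup G}

/-- A 2-element with a nontrivial image of the sign character. -/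
theorem exists_two_elem {H : Subgroup G} (χ : H →* ℤˣ) {h : H} (hh : χ h ≠ 1) :
    ∃ t : H, (∃ a : ℕ, orderOf t = 2 ^ a) ∧ χ t ≠ 1 := by
  obtain ⟨a, b, hb, hab⟩ := Nat.exists_eq_two_pow_mul_odd (orderOf_pos h).ne'
  refine ⟨h ^ b, ⟨a, ?_⟩, ?_⟩
  · rw [orderOf_pow' h hb.pos.ne', hab, Nat.gcd_mul_left_left, Nat.mul_div_cancel _ hb.pos]
  · obtain ⟨c, rfl⟩ := hb
    rwa [map_pow, pow_succ, pow_mul, Int.units_sq, one_pow, one_mul]

/-- The two-group generated by the extraspecial subgroup and a two-element of the centraliser. -/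
theorem isPGroup_sup_zpowers (D : Setup z E) {t : centralizer ({z} : Set G)}
    (ht : ∃ a : ℕ, orderOf t = 2 ^ a) :
    IsPGroup 2 ↥(zpowers (t : G) ⊔ E) ∧ zpowers (t : G) ⊔ E ≤ centralizer ({z} : Set G) := by
  obtain ⟨a, ha⟩ := ht
  have h1 : zpowers (t : G) ≤ centralizer ({z} : Set G) := zpowers_le.2 t.2
  have h2 : IsPGroup 2 (zpowers (t : G)) :=
    IsPGroup.of_card (n := a) (by rw [Nat.card_zpowers, Subgroup.orderOf_coe, ha])
  exact ⟨h2.to_sup_of_normal_right' D.two
    (fun r hr => mem_normalizer_fintype fun e he => D.nor r (h1 hr) e he), sup_le h1 D.le⟩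

/-- A commutator of the conjugated subgroup. -/
theorem exists_commutator_eq (D : Setup z E) {A : Subgroup G} (hA : A ≤ E)
    (hna : ¬ ∀ a ∈ A, ∀ b ∈ A, a * b = b * a) : ∃ a ∈ A, ∃ b ∈ A, z = a * b * a⁻¹ * b⁻¹ := by
  push Not at hna
  obtain ⟨a, ha, b, hb, hab⟩ := hna
  refine ⟨a, ha, b, hb, ?_⟩
  have h := (D.comm a (hA ha) b (hA hb)).resolve_left hab
  rw [h, mul_assoc b a z, ← D.zc (D.le (hA ha)), ← mul_assoc, ← D.zc (D.le (hA hb))]
  group

/-- No involution outside centralises half of the extraspecial subgroup. -/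
theorem not_centralises_half (D : Setup z E) {u : G} (huz : u ∈ centralizer ({z} : Set G)) (hu2 : u * u = 1)
    (huE : u ∉ E) {A : Subgroup G} (hA : A ≤ E) (hzA : z ∈ A) (hcard : Nat.card E ≤ 2 * Nat.card A)
    (huA : ∀ a ∈ A, u * a = a * u) : False := by
  classical
  have hz1 : z ≠ 1 := fun h0 => by have := D.hz; rw [h0, orderOf_one] at this; omega
  have hnoC : ∀ x : G, (∀ e ∈ E, e * x = x * e) → x ∈ E := fun x hx => D.self (mem_centralizer_iff.2 hx)
  by_cases hAE : A = E
  · exact huE (hnoC u fun e he => (huA e (hAE ▸ he)).symm)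
  have hle : A.subgroupOf E ≠ ⊤ := fun h => hAE (le_antisymm hA (subgroupOf_eq_top.1 h))
  have hidx : (A.subgroupOf E).index = 2 := by
    have h1 := (A.subgroupOf E).index_mul_card
    rw [Nat.card_congr (subgroupOfEquivOfLe hA).toEquiv] at h1
    have h2 : (A.subgroupOf E).index ≠ 1 := fun h => hle (index_eq_one.1 h)
    have h3 : (A.subgroupOf E).index ≠ 0 := index_ne_zero_of_finite
    have h4 : (A.subgroupOf E).index ≤ 2 := Nat.le_of_mul_le_mul_right (h1 ▸ hcard) Nat.card_pos
    omega
  have hiff : ∀ {a b : G}, a ∈ E → b ∈ E → (a * b ∈ A ↔ (a ∈ A ↔ b ∈ A)) := fun {a b} ha hb =>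
    mul_mem_iff_of_index_two hidx (a := ⟨a, ha⟩) (b := ⟨b, hb⟩)
  obtain ⟨f, hf, hfA⟩ := SetLike.exists_of_lt (lt_of_le_of_ne hA hAE)
  have hui : u⁻¹ = u := inv_eq_of_mul_eq_one_right hu2
  set f' := u * f * u with hf'
  have hf'E : f' ∈ E := by have := D.nor u huz f hf; rwa [hui] at this
  have hinvol : u * f' * u = f := by
    rw [hf']; calc u * (u * f * u) * u = (u * u) * f * (u * u) := by group
      _ = f := by rw [hu2]; group
  have hf'A : f' ∉ A := fun h => hfA (by
    have h1 : u * f' = f' * u := huA f' h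
    rw [h1, mul_assoc, hu2, mul_one] at hinvol
    exact hinvol ▸ h)
  set e := f⁻¹ * f' with he
  have heE : e ∈ E := E.mul_mem (E.inv_mem hf) hf'E
  have heA : e ∈ A := by
    rw [he, hiff (E.inv_mem hf) hf'E, A.inv_mem_iff]; tauto
  have hfe : f' = f * e := by rw [he, mul_inv_cancel_left]
  have hee : e * e = 1 := by
    have h1 : f' * e = f := by
      rw [← hinvol]
      have h2 := huA e heA
      calc f' * e = u * f * u * e := rfl
        _ = u * (f * e) * u := by rw [mul_assoc (u * f) u e, h2]; group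
        _ = u * f' * u := by rw [← hfe]
    rw [hfe, mul_assoc, mul_eq_left] at h1
    exact h1
  have hsq : f' * f' = f * f := by
    have h1 : f' * f' = u * (f * f) * u := by
      calc f' * f' = u * f * (u * u) * f * u := by rw [hf']; group
        _ = u * (f * f) * u := by rw [hu2]; group
    rcases D.sq f hf with h | h <;> rw [h1, h]
    · rw [mul_one, hu2]
    · rw [← D.zc huz, mul_assoc, hu2, mul_one]
  have hef : e * f = f * e := by
    rw [hfe] at hsq
    have h1 : e * f * e = f := mul_left_cancel (a := f) (by rw [← hsq]; group)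
    calc e * f = e * f * (e * e) := by rw [hee, mul_one]
      _ = (e * f * e) * e := by group
      _ = f * e := by rw [h1]
  have heA' : ∀ a ∈ A, e * a = a * e := by
    intro a ha
    have hb : f * a * f⁻¹ ∈ A := by
      rw [hiff (E.mul_mem hf (hA ha)) (E.inv_mem hf), hiff hf (hA ha), A.inv_mem_iff]; tauto
    set b := f * a * f⁻¹ with hbdef
    have h1 : f' * a = b * f' := by
      have h2 := huA a ha
      have h3 := huA b hb
      calc f' * a = u * f * (u * a) := by rw [hf']; group
        _ = u * (f * a) * u := by rw [h2]; group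
        _ = u * (b * f) * u := by rw [hbdef, inv_mul_cancel_right]
        _ = (u * b) * f * u := by group
        _ = b * f' := by rw [h3, hf']; group
    rw [hfe, mul_assoc] at h1
    apply mul_left_cancel (a := f)
    rw [h1, hbdef]; group
  have hcen : ∀ x ∈ E, e * x = x * e := by
    intro x hx
    by_cases hxA : x ∈ A
    · exact heA' x hxA
    · have hfx : f⁻¹ * x ∈ A := by rw [hiff (E.inv_mem hf) hx, A.inv_mem_iff]; tauto
      calc e * x = (e * f) * (f⁻¹ * x) := by group
        _ = f * (e * (f⁻¹ * x)) := by rw [hef]; group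
        _ = f * ((f⁻¹ * x) * e) := by rw [heA' _ hfx]
        _ = x * e := by group
  rcases D.cen e heE hcen with h | h
  · refine huE (hnoC u fun x hx => ?_)
    by_cases hxA : x ∈ A
    · exact (huA x hxA).symm
    · have hfx : f⁻¹ * x ∈ A := by rw [hiff (E.inv_mem hf) hx, A.inv_mem_iff]; tauto
      have huf : f * u = u * f := by
        calc f * u = f' * u := by rw [hfe, h, mul_one]
          _ = u * f := by rw [hf', mul_assoc, hu2, mul_one]
      calc x * u = f * ((f⁻¹ * x) * u) := by group
        _ = f * (u * (f⁻¹ * x)) := by rw [huA _ hfx]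
        _ = (f * u) * (f⁻¹ * x) := by group
        _ = u * x := by rw [huf]; group
  · let ψ : G → ℤ := fun x => if x ∈ A then 1 else -1
    obtain ⟨e1, he1, hs⟩ := exists_sgn_eq D ψ (fun x _ => by by_cases hx : x ∈ A <;> simp [ψ, hx])
      (fun x hx y hy => by
        have := hiff hx hy
        by_cases hxA : x ∈ A <;> by_cases hyA : y ∈ A <;> simp [hxA, hyA] at this <;> simp [ψ, hxA, hyA, this])
      (by simp [ψ, A.one_mem]) (by simp [ψ, hzA])
    have hcomA : ∀ x ∈ A, e1 * x = x * e1 := fun x hx => by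
      by_contra hne
      have h' := hs x (hA hx)
      rw [sgn, if_neg hne] at h'
      simp [ψ, hx] at h'
    have hfe1 : f * e1 = e1 * f * z := by
      refine (D.comm f hf e1 he1).resolve_left fun hc => ?_
      have h' := hs f hf
      rw [sgn_eq_one hc.symm] at h'
      simp [ψ, hfA] at h'
    have hfu : f * u = u * f * z := by
      calc f * u = (u * f' * u) * u := by rw [hinvol]
        _ = u * f' := by rw [mul_assoc, hu2, mul_one]
        _ = u * f * z := by rw [hfe, h, mul_assoc]
    refine huE ((E.mul_mem_cancel_right he1).1 (hnoC (u * e1) fun x hx => ?_))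
    by_cases hxA : x ∈ A
    · rw [← mul_assoc, ← huA x hxA, mul_assoc, ← hcomA x hxA, mul_assoc]
    · have hfx : f⁻¹ * x ∈ A := by rw [hiff (E.inv_mem hf) hx, A.inv_mem_iff]; tauto
      have hmain : f * (u * e1) = u * e1 * f := by
        calc f * (u * e1) = u * f * z * e1 := by rw [← mul_assoc, hfu]
          _ = u * f * (z * e1) := by group
          _ = u * (f * e1) * z := by rw [D.zc (D.le he1)]; group
          _ = u * e1 * f * (z * z) := by rw [hfe1]; group
          _ = u * e1 * f := by rw [D.zz, mul_one]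
      calc x * (u * e1) = f * (((f⁻¹ * x) * u) * e1) := by group
        _ = f * ((u * (f⁻¹ * x)) * e1) := by rw [huA _ hfx]
        _ = f * (u * ((f⁻¹ * x) * e1)) := by group
        _ = f * (u * (e1 * (f⁻¹ * x))) := by rw [hcomA _ hfx]
        _ = (f * (u * e1)) * (f⁻¹ * x) := by group
        _ = u * e1 * x := by rw [hmain]; group

/-- A centraliser with a subgroup of index two fuses the central involution. -/
theorem exists_fused (D : Setup z E) (hres : Cfsg.pResidual 2 G = ⊤) (hE : 128 ≤ Nat.card E) (K : Subgroup G)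
    (hK : K.relIndex (centralizer ({z} : Set G)) = 2) : ∃ g : G, g * z * g⁻¹ ∈ E ∧ g * z * g⁻¹ ≠ z := by
  classical
  by_contra hno
  push Not at hno
  have hK' : (K.subgroupOf (centralizer ({z} : Set G))).index = 2 := hK
  let χ : centralizer ({z} : Set G) →* ℤˣ :=
    MonoidHom.mk' (fun a => if (a : G) ∈ K then 1 else -1) fun a b => by
      have := mul_mem_iff_of_index_two hK' (a := a) (b := b)
      simp only [mem_subgroupOf, Subgroup.coe_mul] at this
      by_cases ha : (a : G) ∈ K <;> by_cases hb : (b : G) ∈ K <;> simp [ha, hb] at this <;> simp [ha, hb, this]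
  obtain ⟨h, hh⟩ : ∃ h : centralizer ({z} : Set G), χ h ≠ 1 := by
    by_contra hall
    push Not at hall
    have htop : K.subgroupOf (centralizer ({z} : Set G)) = ⊤ := eq_top_iff.2 fun a _ => by
      by_contra ha
      have h' : (if (a : G) ∈ K then (1 : ℤˣ) else -1) = 1 := hall a
      rw [if_neg (fun h => ha (mem_subgroupOf.2 h))] at h'
      exact absurd h' (by decide)
    rw [htop, index_top] at hK'
    omega
  obtain ⟨t, ht2, htne⟩ := exists_two_elem χ hh
  obtain ⟨hP, hPle⟩ := isPGroup_sup_zpowers D ht2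
  refine htne (eq_one_of_small D hres χ ?_ ?_ hP le_sup_right hPle (t := (t : G)) (mem_sup_left (mem_zpowers _)))
  · intro k A hk hA hzA hcard
    exfalso
    have huz : k * z * k⁻¹ ∈ centralizer ({z} : Set G) := by
      refine mem_centralizer_singleton_iff.2 ?_
      have h3 := D.zc ((hA z).1 hzA).2
      calc k * z * k⁻¹ * z = k * (z * (k⁻¹ * z * k)) * k⁻¹ := by group
        _ = k * ((k⁻¹ * z * k) * z) * k⁻¹ := by rw [h3]
        _ = z * (k * z * k⁻¹) := by group
    refine not_centralises_half D huz ?_ (fun huE => hk ?_) (fun e he => ((hA e).1 he).1) hzA hcard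
      (fun a ha => ?_)
    · calc k * z * k⁻¹ * (k * z * k⁻¹) = k * (z * z) * k⁻¹ := by group
        _ = 1 := by rw [D.zz]; group
    · exact mem_centralizer_singleton_iff.2 (mul_inv_eq_iff_eq_mul.1 (hno k huE))
    · have h3 := D.zc ((hA a).1 ha).2
      calc k * z * k⁻¹ * a = k * (z * (k⁻¹ * a * k)) * k⁻¹ := by group
        _ = k * ((k⁻¹ * a * k) * z) * k⁻¹ := by rw [h3]
        _ = a * (k * z * k⁻¹) := by group
  · intro k A hk hA hzA hcard hz'
    have hAE : A ≤ E := fun e he => ((hA e).1 he).1
    obtain ⟨a, ha, b, hb, hab⟩ := exists_commutator_eq D hAE fun hab => by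
      have h1 := card_abelian_sq_le D hAE hab
      nlinarith [h1, hcard, hE]
    have e : (⟨k⁻¹ * z * k, hz'⟩ : centralizer ({z} : Set G)) =
        ⟨_, ((hA a).1 ha).2⟩ * ⟨_, ((hA b).1 hb).2⟩ * ⟨_, ((hA a).1 ha).2⟩⁻¹ * ⟨_, ((hA b).1 hb).2⟩⁻¹ :=
      Subtype.ext (by
        show k⁻¹ * z * k = k⁻¹ * a * k * (k⁻¹ * b * k) * (k⁻¹ * a * k)⁻¹ * (k⁻¹ * b * k)⁻¹
        rw [hab]; group)
    rw [e, map_mul, map_mul, map_mul, map_inv, map_inv, mul_inv_cancel_comm, mul_inv_cancel]

end CfsgLib.CharsMore.ExtraTransfer
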