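import Cfsg.Agent.Lib.CharsMore.ExtraTransfer.Chain

/-!
For a group without quotient of order two, a sign character of an involution centraliser with an
extraspecial subgroup vanishes on two-subgroups once two small block values vanish.
-/

set_option autoImplicit false
set_option linter.unusedSectionVars false

namespace CfsgLib.CharsMore.ExtraTransfer

open Subgroup MulAction CfsgLib.Involutions.ExtraTransfer
open scoped Pointwise

variable {G : Type*} [Group G] [Finite G] {z : G} {E : Subgroup G}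

/-- A next element of the chain. -/
theorem exists_next (D : Setup z E) {H : Subgroup G} {q : G ⧸ H} {R M : Subgroup G} (hR : IsPGroup 2 R)
    (hRc : R ≤ centralizer ({z} : Set G)) (L : Level E q R M) (hzM : z ∈ M) (hne : M ≠ E) :
    ∃ f ∈ E, f ∉ M ∧ (∀ a ∈ M, f * a * f⁻¹ ∈ M) ∧ f * f ∈ M ∧ ∀ r ∈ R, r⁻¹ * f⁻¹ * r * f ∈ M := by
  have hRE : R ≤ normalizer (E : Set G) := fun r hr =>
    mem_normalizer_fintype fun e he => D.nor r (hRc hr) e he
  have hRM : R ≤ normalizer (M : Set G) := fun r hr => mem_normalizer_fintype fun a ha => L.nor r hr a ha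
  have hP : IsPGroup 2 ↥(R ⊔ E) := hR.to_sup_of_normal_right' D.two hRE
  have hRMset : (↑(R ⊔ M) : Set G) = (R : Set G) * (M : Set G) := coe_mul_of_left_le_normalizer_right R M hRM
  have hinter : ∀ y ∈ E, y ∈ R ⊔ M → y ∈ M := by
    intro y hy hy'
    rw [← SetLike.mem_coe, hRMset] at hy'
    obtain ⟨r, hr, a, ha, rfl⟩ := Set.mem_mul.1 hy'
    have hrE : r ∈ E := (E.mul_mem_cancel_right (L.le ha)).1 hy
    exact M.mul_mem (L.stab r hrE (L.fix r hr)) ha
  have hlt : R ⊔ M ≠ R ⊔ E := fun h => hne (le_antisymm L.le fun y hy => hinter y hy (h ▸ mem_sup_right hy))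
  obtain ⟨p, hp, hpN, hpn⟩ : ∃ p ∈ R ⊔ E, p ∈ normalizer ((R ⊔ M : Subgroup G) : Set G) ∧ p ∉ R ⊔ M := by
    by_contra h
    push Not at h
    exact hlt (eq_of_normalizer_inf hP (sup_le_sup_left L.le R) fun r hr hrn => h r hr hrn).symm
  rw [← SetLike.mem_coe, coe_mul_of_left_le_normalizer_right R E hRE] at hp
  obtain ⟨r₀, hr₀, f, hf, rfl⟩ := Set.mem_mul.1 hp
  have hfN : f ∈ normalizer ((R ⊔ M : Subgroup G) : Set G) := by
    have h : r₀⁻¹ * (r₀ * f) ∈ normalizer ((R ⊔ M : Subgroup G) : Set G) :=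
      mul_mem (inv_mem (le_normalizer (mem_sup_left hr₀))) hpN
    rwa [inv_mul_cancel_left] at h
  have hfM : f ∉ M := fun h => hpn (mul_mem (mem_sup_left hr₀) (mem_sup_right h))
  refine ⟨f, hf, hfM, fun a ha => ?_, ?_, fun r hr => ?_⟩
  · rcases D.comm f hf a (L.le ha) with h | h
    · rw [h, mul_inv_cancel_right]; exact ha
    · rw [h, mul_assoc (a * f) z]
      have e : a * f * (z * f⁻¹) = a * z := by
        rw [D.zc (D.le (E.inv_mem hf))]; group
      rw [e]; exact M.mul_mem ha hzM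
  · rcases D.sq f hf with h | h <;> rw [h]
    exacts [M.one_mem, hzM]
  · have h1 : f⁻¹ * r * (f⁻¹)⁻¹ ∈ R ⊔ M :=
      (mem_normalizer_iff.1 (inv_mem hfN) r).1 (mem_sup_left hr)
    rw [inv_inv] at h1
    have h2 : r⁻¹ * f⁻¹ * r * f ∈ R ⊔ M := by
      have e : r⁻¹ * f⁻¹ * r * f = r⁻¹ * (f⁻¹ * r * f) := by group
      rw [e]; exact mul_mem (inv_mem (mem_sup_left hr)) h1
    refine hinter _ ?_ h2
    have h3 := D.nor r⁻¹ (inv_mem (hRc hr)) f⁻¹ (E.inv_mem hf)
    rw [inv_inv] at h3
    exact E.mul_mem h3 hf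

variable {H : Subgroup G} (χ : H →* ℤˣ) {q : G ⧸ H} {R M : Subgroup G}

/-- The conclusions of a doubling step. -/
structure Stepped (D : Setup z E) (q : G ⧸ H) (R M M' : Subgroup G) : Prop where
  level : Level E q R M'
  mem : z ∈ M'
  card : Nat.card M' = 2 * Nat.card M
  zero : blk χ (orb M' q) z = 1
  killsM : blk χ (orb M q) z = 1 → KillsM χ q M'
  killsAll : KillsM χ q M → KillsAll χ q R M'

open Classical in
/-- The doubling step inside an extraspecial group. -/
theorem exists_step (D : Setup z E) (hR : IsPGroup 2 R) (hRc : R ≤ centralizer ({z} : Set G))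
    (L : Level E q R M) (hzM : z ∈ M) (hne : M ≠ E) : ∃ M', Stepped χ D q R M M' := by
  obtain ⟨f, hf, hfM, hfn, hff, hfR⟩ := exists_next D hR hRc L hzM hne
  obtain ⟨M', L', hMM', hfM', hmem, hcard, hx, hf2⟩ := L.double χ hf hfM hfn hff hfR
  have hfz : f⁻¹ * z * f = z := by rw [mul_assoc, D.zc (D.le hf), inv_mul_cancel_left]
  have hcM : ∀ a ∈ M, a⁻¹ * f⁻¹ * a * f = 1 ∨ a⁻¹ * f⁻¹ * a * f = z := by
    intro a ha
    rcases D.comm a (L.le ha) f hf with h | h
    · left
      calc a⁻¹ * f⁻¹ * a * f = a⁻¹ * f⁻¹ * (a * f) := by group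
        _ = 1 := by rw [h]; group
    · right
      calc a⁻¹ * f⁻¹ * a * f = a⁻¹ * f⁻¹ * (a * f) := by group
        _ = z := by rw [h]; group
  have hkill : (∀ a ∈ M, blk χ (orb M' q) a = 1) → blk χ (orb M' q) f = 1 → KillsM χ q M' := by
    intro h1 h2 y hy
    rcases (hmem y).1 hy with h | h
    · exact h1 y h
    · rw [show y = f * (f⁻¹ * y) by group, blk_mul_of_fix χ (smul_orb_of_mem (hMM' h)), h2, h1 _ h, one_mul]
  refine ⟨M', L', hMM' hzM, hcard, ?_, fun hz => hkill (fun a ha => ?_) ?_, fun hk => ?_⟩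
  · rw [hx z (Or.inr hzM), show z⁻¹ * f⁻¹ * z * f = z⁻¹ * (f⁻¹ * z * f) by group, hfz, inv_mul_cancel, blk_one]
  · rw [hx a (Or.inr ha)]
    rcases hcM a ha with h | h <;> rw [h]
    exacts [blk_one χ _, hz]
  · rw [hf2]
    rcases D.sq f hf with h | h <;> rw [h]
    exacts [blk_one χ _, hz]
  · refine ⟨hkill (fun a ha => ?_) ?_, fun r hr => ?_⟩
    · rw [hx a (Or.inr ha)]
      rcases hcM a ha with h | h <;> rw [h]
      exacts [hk _ M.one_mem, hk z hzM]
    · rw [hf2]; exact hk _ hff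
    · rw [hx r (Or.inl hr)]; exact hk _ (hfR r hr)

open Classical in
/-- Once everything is killed it stays so up to the whole orbit. -/
theorem killsAll_top (D : Setup z E) (hR : IsPGroup 2 R) (hRc : R ≤ centralizer ({z} : Set G))
    (L : Level E q R M) (hzM : z ∈ M) (hk : KillsAll χ q R M) : KillsAll χ q R E := by
  induction hn : Nat.card E - Nat.card M using Nat.strong_induction_on generalizing M with
  | _ n ih =>
    by_cases hME : M = E
    · exact hME ▸ hk
    · obtain ⟨M', S⟩ := exists_step χ D hR hRc L hzM hME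
      have h1 := S.card
      have h2 := Subgroup.card_le_of_le S.level.le
      have h3 : 0 < Nat.card M := Nat.card_pos
      exact ih _ (by omega) S.level S.mem (S.killsAll hk.1) rfl

variable {χ₀ : centralizer ({z} : Set G) →* ℤˣ}

theorem transfer_coc_prod (hres : Cfsg.pResidual 2 G = ⊤) {H : Subgroup G} (χ : H →* ℤˣ)
    [Fintype (G ⧸ H)] (t : G) : ∏ q : G ⧸ H, coc χ t q = 1 := by
  classical
  rw [← transfer_eq_prod]
  have hle : Cfsg.pResidual 2 G ≤ (MonoidHom.transfer χ).ker := by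
    refine (closure_le _).2 fun y hy => ?_
    have hy' : Nat.Coprime (orderOf y) 2 := hy
    have h1 := orderOf_map_dvd (MonoidHom.transfer χ) y
    have h2 : orderOf (MonoidHom.transfer χ y) ∣ 2 :=
      orderOf_dvd_of_pow_eq_one (by rw [sq, Int.units_mul_self])
    have := Nat.dvd_gcd h1 h2
    rw [hy', Nat.dvd_one, orderOf_eq_one_iff] at this
    exact this
  exact hle (hres ▸ mem_top t)

open Classical in
/-- The vanishing theorem. -/
theorem eq_one_of_small (D : Setup z E) (hres : Cfsg.pResidual 2 G = ⊤)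
    (χ : centralizer ({z} : Set G) →* ℤˣ)
    (h1 : ∀ (k : G) (A : Subgroup G), k ∉ centralizer ({z} : Set G) →
      (∀ e, e ∈ A ↔ e ∈ E ∧ k⁻¹ * e * k ∈ centralizer ({z} : Set G)) → z ∈ A →
      Nat.card E ≤ 2 * Nat.card A →
      ∀ a ∈ A, ∀ h : k⁻¹ * a * k ∈ centralizer ({z} : Set G), χ ⟨_, h⟩ = 1)
    (h2 : ∀ (k : G) (A : Subgroup G), k ∉ centralizer ({z} : Set G) →
      (∀ e, e ∈ A ↔ e ∈ E ∧ k⁻¹ * e * k ∈ centralizer ({z} : Set G)) → z ∈ A →
      Nat.card E ≤ 4 * Nat.card A →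
      ∀ h : k⁻¹ * z * k ∈ centralizer ({z} : Set G), χ ⟨_, h⟩ = 1)
    {T : Subgroup G} (hT : IsPGroup 2 T) (hET : E ≤ T) (hTH : T ≤ centralizer ({z} : Set G))
    {t : G} (ht : t ∈ T) : χ ⟨t, hTH ht⟩ = 1 := by
  have := Fintype.ofFinite (G ⧸ centralizer ({z} : Set G))
  set q₀ : G ⧸ centralizer ({z} : Set G) := ((1 : G) : G ⧸ centralizer ({z} : Set G)) with hq₀
  -- the base point
  have hbase : coc χ t q₀ = χ ⟨t, hTH ht⟩ := by
    rw [hq₀, coc_of_fix χ 1 t (by simpa using hTH ht)]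
    exact congrArg χ (Subtype.ext (by simp))
  have hfix₀ : ∀ h ∈ centralizer ({z} : Set G), h • q₀ = q₀ := fun h hh => by
    rw [hq₀, MulAction.Quotient.smul_coe, smul_eq_mul, mul_one, QuotientGroup.eq, mul_one]; exact (centralizer ({z} : Set G)).inv_mem hh
  -- each orbit away from it
  have hkill : ∀ q : G ⧸ centralizer ({z} : Set G), q ≠ q₀ → ∀ x ∈ T, x • orb E q = orb E q → blk χ (orb E q) x = 1 := by
    intro q hq
    obtain ⟨k, rfl⟩ := QuotientGroup.mk_surjective q
    have hk : k ∉ centralizer ({z} : Set G) := fun hk => hq (by rw [hq₀, QuotientGroup.eq]; simpa using (centralizer ({z} : Set G)).inv_mem hk)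
    set A := E ⊓ (centralizer ({z} : Set G)).map (MulAut.conj k).toMonoidHom with hAdef
    have hmap : ∀ e, e ∈ (centralizer ({z} : Set G)).map (MulAut.conj k).toMonoidHom ↔ k⁻¹ * e * k ∈ centralizer ({z} : Set G) := fun e => by
      constructor
      · rintro ⟨h, hh, rfl⟩; simpa [mul_assoc] using hh
      · exact fun he => ⟨_, he, by simp [mul_assoc]⟩
    have hA : ∀ e, e ∈ A ↔ e ∈ E ∧ k⁻¹ * e * k ∈ centralizer ({z} : Set G) := fun e => by rw [hAdef, mem_inf, hmap]
    set R := T ⊓ (centralizer ({z} : Set G)).map (MulAut.conj k).toMonoidHom with hRdef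
    have hfix : ∀ x, k⁻¹ * x * k ∈ centralizer ({z} : Set G) ↔ x • (k : G ⧸ centralizer ({z} : Set G)) = k := fun x => by
      rw [MulAction.Quotient.smul_coe, smul_eq_mul, eq_comm, QuotientGroup.eq, mul_assoc]
    have hRfix : ∀ r ∈ R, r • (k : G ⧸ centralizer ({z} : Set G)) = k := fun r hr => (hfix r).1 ((hmap r).1 hr.2)
    have hR : IsPGroup 2 R := hT.to_le inf_le_left
    have hRc : R ≤ centralizer ({z} : Set G) := inf_le_left.trans hTH
    have L : Level E (k : G ⧸ centralizer ({z} : Set G)) R A := by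
      refine ⟨inf_le_left, fun e he h => (hA e).2 ⟨he, (hfix e).2 h⟩, fun r hr a ha => ?_, hRfix⟩
      exact ⟨D.nor r (hRc hr) a ha.1, Subgroup.mul_mem _ (Subgroup.mul_mem _ hr.2 ha.2) (Subgroup.inv_mem _ hr.2)⟩
    have hbot : ∀ x, blk χ (orb A (k : G ⧸ centralizer ({z} : Set G))) x = coc χ x k := fun x =>
      blk_orb_bot χ (fun a ha => (hfix a).1 ((hA a).1 ha).2) x
    suffices hall : KillsAll χ (k : G ⧸ centralizer ({z} : Set G)) R E by
      intro x hx hxB
      have hxq : x • (k : G ⧸ centralizer ({z} : Set G)) ∈ x • orb E (k : G ⧸ centralizer ({z} : Set G)) :=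
        mem_smul_orb.2 ⟨1, E.one_mem, by rw [mul_one]⟩
      rw [hxB] at hxq
      obtain ⟨e, he, hee⟩ := mem_orb.1 hxq
      have hr : e⁻¹ * x ∈ R := ⟨T.mul_mem (T.inv_mem (hET he)) hx,
        (hmap _).2 ((hfix _).2 (by rw [mul_smul, ← hee, inv_smul_smul]))⟩
      have hnor : ∀ a ∈ E, (e⁻¹ * x) * a * (e⁻¹ * x)⁻¹ ∈ E := fun a ha => D.nor _ (hRc hr) a ha
      rw [show x = e * (e⁻¹ * x) by group, blk_mul_of_fix χ (smul_orb_of_fix hnor (hRfix _ hr)), hall.1 e he,
        hall.2 _ hr, one_mul]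
    by_cases hzA : z ∈ A
    · have hzH : k⁻¹ * z * k ∈ centralizer ({z} : Set G) := ((hA z).1 hzA).2
      -- the orbit is not a single point
      have hAE : A ≠ E := by
        intro hAE
        have hu : k * z * k⁻¹ ∈ centralizer (E : Set G) := mem_centralizer_iff.2 fun e he => by
          have h3 := D.zc ((hA e).1 (hAE.symm ▸ he)).2
          calc e * (k * z * k⁻¹) = k * ((k⁻¹ * e * k) * z) * k⁻¹ := by group
            _ = k * (z * (k⁻¹ * e * k)) * k⁻¹ := by rw [h3]
            _ = k * z * k⁻¹ * e := by group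
        rcases D.cen _ (D.self hu) (fun f hf => (mem_centralizer_iff.1 hu f hf).symm) with h | h
        · have : z = 1 := by simpa [mul_assoc] using congrArg (fun y => k⁻¹ * y * k) h
          have h2 := D.hz; rw [this, orderOf_one] at h2; omega
        · exact hk (mem_centralizer_singleton_iff.2 (mul_inv_eq_iff_eq_mul.1 h))
      obtain ⟨M₁, S₁⟩ := exists_step χ D hR hRc L hzA hAE
      by_cases hM₁ : M₁ = E
      · have hkA : KillsM χ (k : G ⧸ centralizer ({z} : Set G)) A := fun a ha => by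
          rw [hbot, coc_of_fix χ k a ((hA a).1 ha).2]
          exact h1 k A hk hA hzA (by rw [← hM₁, S₁.card]) a ha _
        exact hM₁ ▸ S₁.killsAll hkA
      obtain ⟨M₂, S₂⟩ := exists_step χ D hR hRc S₁.level S₁.mem hM₁
      have hk₂ : KillsM χ (k : G ⧸ centralizer ({z} : Set G)) M₂ := S₂.killsM S₁.zero
      by_cases hM₂ : M₂ = E
      · have hz0 : blk χ (orb A (k : G ⧸ centralizer ({z} : Set G))) z = 1 := by
          rw [hbot, coc_of_fix χ k z hzH]
          exact h2 k A hk hA hzA (by rw [← hM₂, S₂.card, S₁.card]; omega) _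
        exact hM₂ ▸ S₂.killsAll (S₁.killsM hz0)
      obtain ⟨M₃, S₃⟩ := exists_step χ D hR hRc S₂.level S₂.mem hM₂
      exact killsAll_top χ D hR hRc S₃.level S₃.mem (S₃.killsAll hk₂)
    · -- the centre moves the point
      have hzc : ∀ {x : G}, x ∈ centralizer ({z} : Set G) → x⁻¹ * z⁻¹ * x * z = 1 := fun {x} hx => by
        calc x⁻¹ * z⁻¹ * x * z = x⁻¹ * z⁻¹ * (x * z) := by group
          _ = 1 := by rw [← D.zc hx]; group
      obtain ⟨M', L', hAM', hzM', hmem, -, hx', hz2⟩ := L.double χ D.mem hzA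
        (fun a ha => by
          rw [D.zc (D.le ha.1), mul_inv_cancel_right]; exact ha)
        (by rw [D.zz]; exact A.one_mem) (fun r hr => by rw [hzc (hRc hr)]; exact A.one_mem)
      have hone : ∀ x, (x ∈ R ∨ x ∈ A) → blk χ (orb M' (k : G ⧸ centralizer ({z} : Set G))) x = 1 := fun x hx => by
        rw [hx' x hx, hzc (hx.elim (fun h => hRc h) fun h => D.le h.1), blk_one]
      refine killsAll_top χ D hR hRc L' hzM' ⟨fun y hy => ?_, fun r hr => hone r (Or.inl hr)⟩
      rcases (hmem y).1 hy with h | h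
      · exact hone y (Or.inr h)
      · rw [show y = z * (z⁻¹ * y) by group, blk_mul_of_fix χ (smul_orb_of_mem (hAM' h)), hz2, D.zz, blk_one,
          hone _ (Or.inr h), one_mul]
  -- collect the orbits
  have hrest : ∏ q ∈ Finset.univ.erase q₀, coc χ t q = 1 := by
    set S := Finset.univ.erase q₀ with hS
    rw [← Finset.prod_fiberwise_of_maps_to (g := fun q => orb E q) (t := S.image fun q => orb E q)
      (fun q hq => Finset.mem_image_of_mem _ hq)]
    have hblock : ∀ B ∈ S.image (fun q => orb E q), (S.filter fun q => orb E q = B) = B := by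
      intro B hB
      obtain ⟨q, hq, rfl⟩ := Finset.mem_image.1 hB
      ext p
      rw [Finset.mem_filter]
      constructor
      · rintro ⟨-, hp⟩
        rw [← hp]; exact mem_orb.2 ⟨1, E.one_mem, one_smul G p⟩
      · intro hp
        obtain ⟨e, he, rfl⟩ := mem_orb.1 hp
        refine ⟨Finset.mem_erase.2 ⟨fun h0 => (Finset.mem_erase.1 hq).1 ?_, Finset.mem_univ _⟩, ?_⟩
        · calc q = e⁻¹ • (e • q) := (inv_smul_smul e q).symm
            _ = q₀ := by rw [h0]; exact hfix₀ _ ((centralizer ({z} : Set G)).inv_mem (D.le he))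
        · ext y
          rw [mem_orb, mem_orb]
          constructor
          · rintro ⟨a, ha, rfl⟩; exact ⟨a * e, E.mul_mem ha he, mul_smul a e q⟩
          · rintro ⟨a, ha, rfl⟩
            exact ⟨a * e⁻¹, E.mul_mem ha (E.inv_mem he), by rw [← mul_smul, inv_mul_cancel_right]⟩
    rw [Finset.prod_congr rfl fun B hB => show (∏ q ∈ S.filter (fun q => orb E q = B), coc χ t q) = blk χ B t by
      rw [hblock B hB]; rfl]
    refine prod_eq_one_of_stab T _ (fun g B => blk χ B g) ?_ (fun s _ u _ B _ => blk_mul χ B s u) ?_ ht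
    · intro s hs B hB
      obtain ⟨q, hq, rfl⟩ := Finset.mem_image.1 hB
      refine Finset.mem_image.2 ⟨s • q, Finset.mem_erase.2 ⟨fun h0 => (Finset.mem_erase.1 hq).1 ?_,
        Finset.mem_univ _⟩, ?_⟩
      · calc q = s⁻¹ • (s • q) := (inv_smul_smul s q).symm
          _ = q₀ := by rw [h0]; exact hfix₀ _ ((centralizer ({z} : Set G)).inv_mem (hTH hs))
      · ext y
        rw [mem_orb, mem_smul_orb]
        constructor
        · rintro ⟨a, ha, rfl⟩
          refine ⟨s⁻¹ * a * s, by simpa using D.nor s⁻¹ ((centralizer ({z} : Set G)).inv_mem (hTH hs)) a ha, ?_⟩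
          rw [← mul_smul]; congr 1; group
        · rintro ⟨a, ha, rfl⟩
          refine ⟨s * a * s⁻¹, D.nor s (hTH hs) a ha, ?_⟩
          rw [← mul_smul, inv_mul_cancel_right]
    · intro s hs B hB hfixB
      obtain ⟨q, hq, rfl⟩ := Finset.mem_image.1 hB
      exact hkill q (Finset.mem_erase.1 hq).1 s hs hfixB
  have hall := transfer_coc_prod hres χ t
  rw [← Finset.mul_prod_erase Finset.univ _ (Finset.mem_univ q₀), hrest, mul_one, hbase] at hall
  exact hall

end CfsgLib.CharsMore.ExtraTransfer
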